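import Cfsg.Agent.G2Orders80.Witness
import Cfsg.Agent.G2Orders80.Unipotent

/-!
The short-root Levi subgroup of G2(F) as an image of GL2(F), and conjugation rules between root
subgroups (helper59).
-/

set_option autoImplicit false

namespace Cfsg.Agent.G2Cover59

open scoped commutatorElement
open Cfsg.Lie Cfsg.Agent.G2Orders80 Cfsg.Agent.ChevCore Cfsg.Agent.ChevGroup Matrix

universe u

variable {F : Type u} [Field F] [Fintype F]

set_option linter.unusedSectionVars false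

local notation "GL2" => GL (Fin 2) F

theorem X_mem (S : List Rt) {r : Rt} (hr : r ∈ S) (c : F) : (X r c : Grp F) ∈ XG F S :=
  Subgroup.subset_closure ⟨r, hr, c, rfl⟩

theorem XG_mono {S T : List Rt} (h : ∀ r ∈ S, r ∈ T) : XG F S ≤ XG F T :=
  Subgroup.closure_mono fun _ ⟨r, hr, c, e⟩ => ⟨r, h r hr, c, e⟩

theorem conj_mem {S A : List Rt} (hB : commB 0 S A S) {a v : Grp F} (ha : a ∈ XG F A)
    (hv : v ∈ XG F S) : a * v * a⁻¹ ∈ XG F S :=
  (Subgroup.mem_normalizer_iff.1 (XG_normalizes (F := F) Nat.cast_zero hB ha) v).1 hv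

/-- Split off the last root of a normalised list. -/
theorem exists_split {S : List Rt} {s : Rt} (hB : commB 0 S [s] S) {v : Grp F}
    (hv : v ∈ XG F (S ++ [s])) : ∃ v₀ ∈ XG F S, ∃ c, v = v₀ * X s c := by
  induction hv using Subgroup.closure_induction with
  | mem x hx =>
    obtain ⟨r, hr, c, rfl⟩ := hx
    rcases List.mem_append.1 hr with h | h
    · exact ⟨X r c, X_mem S h c, 0, by rw [X_zero, mul_one]⟩
    · rw [List.mem_singleton] at h
      subst h
      exact ⟨1, one_mem _, c, (one_mul _).symm⟩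
  | one => exact ⟨1, one_mem _, 0, by rw [X_zero, mul_one]⟩
  | mul x y _ _ hx hy =>
    obtain ⟨a, ha, c, rfl⟩ := hx
    obtain ⟨b, hb, d, rfl⟩ := hy
    refine ⟨a * (X s c * b * (X s c)⁻¹),
      mul_mem ha (conj_mem hB (X_mem [s] (by simp) c) hb), c + d, ?_⟩
    rw [X_add]; group
  | inv x _ hx =>
    obtain ⟨a, ha, c, rfl⟩ := hx
    refine ⟨X s (-c) * a⁻¹ * (X s (-c))⁻¹, conj_mem hB (X_mem [s] (by simp) _) (inv_mem ha), -c, ?_⟩
    rw [X_neg]; group

/-- Split off the first root of a normalised list. -/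
theorem exists_split' {S : List Rt} {s : Rt} (hB : commB 0 S [s] S) {v : Grp F}
    (hv : v ∈ XG F (s :: S)) : ∃ c, ∃ v₀ ∈ XG F S, v = X s c * v₀ := by
  obtain ⟨a, ha, c, rfl⟩ := exists_split hB (XG_mono (T := S ++ [s]) (by simp +contextual [or_comm]) hv)
  refine ⟨c, X s (-c) * a * (X s (-c))⁻¹, conj_mem hB (X_mem [s] (by simp) _) ha, ?_⟩
  rw [X_neg]; group

/-- The commutator formula as a conjugation rule. -/
theorem conj_X_eq (r s : Rt) (L : List (Rt × ℤ × ℕ × ℕ)) (h1 : s.val ≠ r.val)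
    (h2 : s.val ≠ chevG2.neg r.val)
    (hL : chevG2.commTerms r.val s.val = L.map fun c => (c.1.val, c.2)) (k w : F) :
    (X r k * X s w * (X r k)⁻¹ : Grp F) =
      X s w * (L.map fun c => (X c.1 ((c.2.1 : F) * k ^ c.2.2.1 * w ^ c.2.2.2) : Grp F)).prod := by
  refine Subtype.ext ?_
  have hG := uGoodG2.toCommGood.toGood
  have e := uGoodG2.toCommGood.xg_comm (F := F) (r := r.val) (s := s.val) r.isLt s.isLt h1 h2 (-k) w
  have e1 : wordG chevG2 F (chevG2.commWord F r.val s.val (-k) w) =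
      (((L.map fun c => (X c.1 ((c.2.1 : F) * k ^ c.2.2.1 * w ^ c.2.2.2) : Grp F)).prod : Grp F) :
        GL chevG2.Idx F) := by
    rw [← Subgroup.coe_subtype, map_list_prod, wordG, ChevalleyDatum.commWord, hL, List.map_map,
      List.map_map, List.map_map]
    congr 1
    refine List.map_congr_left fun c _ => ?_
    simp only [Function.comp_apply, Subgroup.coe_subtype, val_X, neg_neg]
  rw [Subgroup.coe_mul, Subgroup.coe_mul, Subgroup.coe_mul, Subgroup.coe_inv, ← e1, val_X, val_X]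
  rw [mul_assoc] at e
  rw [show xg chevG2 F r.val k = (xg chevG2 F r.val (-k))⁻¹ by rw [hG.xg_inv, neg_neg], inv_inv,
    mul_assoc, e]
  group

theorem conj_X6_X3 (k w : F) : ∃ v ∈ XG F [0, 1, 2],
    (X 6 k * X 3 w * (X 6 k)⁻¹ : Grp F) = v * X 3 w * X 4 (-(k * w)) := by
  have e := conj_X_eq (F := F) 6 3 [(4, -1, 1, 1), (2, -1, 1, 2), (0, -1, 1, 3), (1, 2, 2, 3)]
    (by decide) (by decide +kernel) (by decide +kernel) k w
  simp only [List.map_cons, List.map_nil, List.prod_cons, List.prod_nil, mul_one] at e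
  rw [e]
  set r := (X 2 ((↑(-1 : ℤ) : F) * k ^ 1 * w ^ 2) : Grp F) *
    (X 0 ((↑(-1 : ℤ) : F) * k ^ 1 * w ^ 3) * X 1 ((↑(2 : ℤ) : F) * k ^ 2 * w ^ 3)) with hr
  rw [show (↑(-1 : ℤ) : F) * k ^ 1 * w ^ 1 = -(k * w) by simp]
  have hrm : r ∈ XG F [0, 1, 2] :=
    mul_mem (X_mem _ (by simp) _) (mul_mem (X_mem _ (by simp) _) (X_mem _ (by simp) _))
  exact ⟨_, conj_mem (F := F) (A := [3, 4]) (by decide +kernel)
    (mul_mem (X_mem [3, 4] (r := 3) (by simp) w) (X_mem [3, 4] (r := 4) (by simp) (-(k * w)))) hrm,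
    by group⟩

theorem conj_X5_X8 (k w : F) : ∃ v ∈ XG F [9, 10, 11],
    (X 5 k * X 8 w * (X 5 k)⁻¹ : Grp F) = X 7 (k * w) * X 8 w * v := by
  have e := conj_X_eq (F := F) 5 8 [(7, 1, 1, 1), (9, -1, 1, 2), (11, 1, 1, 3), (10, 2, 2, 3)]
    (by decide) (by decide +kernel) (by decide +kernel) k w
  simp only [List.map_cons, List.map_nil, List.prod_cons, List.prod_nil, mul_one] at e
  rw [e]
  set r := (X 9 ((↑(-1 : ℤ) : F) * k ^ 1 * w ^ 2) : Grp F) *
    (X 11 ((↑(1 : ℤ) : F) * k ^ 1 * w ^ 3) * X 10 ((↑(2 : ℤ) : F) * k ^ 2 * w ^ 3)) with hr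
  rw [show (↑(1 : ℤ) : F) * k ^ 1 * w ^ 1 = k * w by simp]
  have hrm : r ∈ XG F [9, 10, 11] :=
    mul_mem (X_mem _ (by simp) _) (mul_mem (X_mem _ (by simp) _) (X_mem _ (by simp) _))
  have hc : ⁅(X 8 w : Grp F), X 7 (k * w)⁆ ∈ XG F [9, 10, 11] :=
    comm_mem Nat.cast_zero (A := [8]) (B := [7]) (by decide +kernel)
      ⟨8, by simp, _, rfl⟩ ⟨7, by simp, _, rfl⟩
  have hc' := conj_mem (F := F) (S := [9, 10, 11]) (A := [7, 8]) (by decide +kernel)
    (inv_mem (mul_mem (X_mem [7, 8] (r := 7) (by simp) (k * w)) (X_mem [7, 8] (r := 8) (by simp) w))) hc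
  refine ⟨_, mul_mem hc' hrm, ?_⟩
  simp only [commutatorElement_def]
  group

/-- A `2 × 2` matrix made into a unit. -/
def gl (M : Matrix (Fin 2) (Fin 2) F) (h : M.det ≠ 0) : GL2 := GeneralLinearGroup.mkOfDetNeZero M h

/-- The upper unitriangular elements. -/
def upr (a : F) : GL2 := gl !![1, a; 0, 1] (by simp [det_fin_two])

/-- The lower unitriangular elements. -/
def lwr (a : F) : GL2 := gl !![1, 0; a, 1] (by simp [det_fin_two])

/-- The diagonal elements. -/
def dg (α β : Fˣ) : GL2 := gl !![(α : F), 0; 0, (β : F)] (by simp [det_fin_two])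

/-- The determinant-one part. -/
def slp (M : GL2) : SL2 F :=
  ⟨(M : Matrix (Fin 2) (Fin 2) F) * !![((GeneralLinearGroup.det M)⁻¹ : Fˣ).1, 0; 0, 1], by
    rw [det_mul, det_fin_two_of, mul_zero, sub_zero, mul_one, ← GeneralLinearGroup.val_det_apply,
      Units.mul_inv]⟩

/-- The torus element with `a ↦ d`, `b ↦ d⁻¹`. -/
noncomputable def tau (d : Fˣ) : Grp F := ((psi2_surjective (F := F) (d, d⁻¹)).choose).1

theorem tau_mem (d : Fˣ) : tau d ∈ (R F).H := ((psi2_surjective (F := F) (d, d⁻¹)).choose).2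

theorem psi2_tau (d : Fˣ) : psi2 ⟨tau d, tau_mem d⟩ = (d, d⁻¹) :=
  (psi2_surjective (F := F) (d, d⁻¹)).choose_spec

theorem tau_mul (c d : Fˣ) : tau (c * d) = tau c * tau d := by
  have h : (⟨tau (c * d), tau_mem _⟩ : ↥(R F).H) = ⟨tau c, tau_mem _⟩ * ⟨tau d, tau_mem _⟩ := by
    refine psi2_injective ?_
    rw [map_mul, psi2_tau, psi2_tau, psi2_tau]
    exact Prod.ext rfl (by simp [mul_comm])
  exact congrArg Subtype.val h

theorem chi_tau_seven (d : Fˣ) : χ (tau d) 7 = d := by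
  rw [chi_eq ⟨tau d, tau_mem d⟩ 7, psi2_tau, show cfv 7 = (1, 0) by decide]
  simp [ev2]

/-- The Levi map. -/
noncomputable def io : GL2 →* Grp F :=
  MonoidHom.mk' (fun M => phi 7 (slp M) * tau (GeneralLinearGroup.det M)) fun M M' => by
    show phi 7 (slp (M * M')) * tau (GeneralLinearGroup.det (M * M')) = _
    rw [map_mul GeneralLinearGroup.det, tau_mul]
    set d := GeneralLinearGroup.det M with hd
    have h := phi_conj (tau_mem d) 7 (slp M')
    have e : slp (M * M') = slp M * dconj (χ (tau d) 7) (chi_ne_zero (tau_mem d) 7) (slp M') := by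
      refine Subtype.ext ?_
      rw [Matrix.SpecialLinearGroup.coe_mul, coe_dconj]
      simp only [slp, map_mul, Units.val_mul, _root_.mul_inv_rev, chi_tau_seven]
      rw [Matrix.mul_assoc, Matrix.mul_assoc]
      congr 1
      have := d.ne_zero
      ext i j
      fin_cases i <;> fin_cases j <;> simp [Matrix.mul_apply, Fin.sum_univ_two, ← hd] <;>
        field_simp
    rw [e, map_mul, ← h]
    group

theorem io_apply (M : GL2) : io M = phi 7 (slp M) * tau (GeneralLinearGroup.det M) := rfl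

theorem tau_one : (tau 1 : Grp F) = 1 := by
  have h := tau_mul (F := F) 1 1
  rw [mul_one] at h
  exact mul_eq_left.1 h.symm

theorem io_upr (a : F) : io (upr a) = X 7 a := by
  have hd : GeneralLinearGroup.det (upr a) = 1 := Units.ext (by simp [upr, gl, det_fin_two])
  have e : slp (upr a) = slU a := by
    refine Subtype.ext ?_
    show ((upr a : GL2) : Matrix (Fin 2) (Fin 2) F) * _ = _
    simp [hd, upr, gl, coe_slU]
  rw [io_apply, hd, e, tau_one, mul_one, phi_U]

theorem io_lwr (a : F) : io (lwr a) = X 4 a := by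
  have hd : GeneralLinearGroup.det (lwr a) = 1 := Units.ext (by simp [lwr, gl, det_fin_two])
  have e : slp (lwr a) = slL a := by
    refine Subtype.ext ?_
    show ((lwr a : GL2) : Matrix (Fin 2) (Fin 2) F) * _ = _
    simp [hd, lwr, gl, coe_slL]
  rw [io_apply, hd, e, tau_one, mul_one, phi_L]
  rfl

theorem det_dg (α β : Fˣ) : GeneralLinearGroup.det (dg α β) = α * β :=
  Units.ext (by simp [dg, gl, det_fin_two])

theorem io_dg_mem (α β : Fˣ) : io (dg α β) ∈ (R F).H := by
  have e : slp (dg α β) = ph slU slL ((β⁻¹ : Fˣ) : F) := by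
    refine Subtype.ext ?_
    rw [ph_sl (β⁻¹).ne_zero]
    show ((dg α β : GL2) : Matrix (Fin 2) (Fin 2) F) * _ = _
    rw [det_dg]
    have := α.ne_zero
    have := β.ne_zero
    ext i j
    fin_cases i <;> fin_cases j <;> simp [dg, gl] <;> field_simp
  rw [io_apply, e, phi_ph]
  exact mul_mem ((R F).hr_mem_H (β⁻¹).ne_zero) (tau_mem _)

theorem psi2_dg (α β : Fˣ) :
    psi2 ⟨io (dg α β), io_dg_mem α β⟩ = (α * β⁻¹, β * β * α⁻¹) := by
  have e : io (dg α β) = (R F).hr 7 ((β⁻¹ : Fˣ) : F) * tau (α * β) := by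
    have e : slp (dg α β) = ph slU slL ((β⁻¹ : Fˣ) : F) := by
      refine Subtype.ext ?_
      rw [ph_sl (β⁻¹).ne_zero]
      show ((dg α β : GL2) : Matrix (Fin 2) (Fin 2) F) * _ = _
      rw [det_dg]
      have := α.ne_zero
      have := β.ne_zero
      ext i j
      fin_cases i <;> fin_cases j <;> simp [dg, gl] <;> field_simp
    rw [io_apply, e, phi_ph, det_dg]
    rfl
  have key : ∀ s : Rt, χ (io (dg α β)) s =
      ((β⁻¹ : Fˣ) : F) ^ chevG2.pairing 7 s.val * χ (tau (α * β)) s := fun s => by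
    rw [e, chi_mul ((R F).hr_mem_H (β⁻¹).ne_zero) (tau_mem _)]
    exact congrArg (· * χ (tau (α * β)) s) (chi_hr 7 s (β⁻¹).ne_zero)
  obtain ⟨hp7, hp6, -⟩ := pairing_cert
  have a7 := key 7
  have a6 := key 6
  rw [chi_eq ⟨_, io_dg_mem α β⟩, chi_eq ⟨_, tau_mem _⟩, psi2_tau,
    show cfv 7 = (1, 0) by decide, show ((7 : Rt) : ℕ) = 7 from rfl, hp7, ev2, ev2] at a7
  rw [chi_eq ⟨_, io_dg_mem α β⟩, chi_eq ⟨_, tau_mem _⟩, psi2_tau,
    show cfv 6 = (0, 1) by decide, show ((6 : Rt) : ℕ) = 6 from rfl, hp6, ev2, ev2] at a6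
  have := α.ne_zero
  have := β.ne_zero
  refine Prod.ext (Units.ext ?_) (Units.ext ?_)
  · simp at a7 ⊢
    rw [a7]
    field_simp
  · simp at a6 ⊢
    rw [a6]
    field_simp

theorem chi_dg (α β : Fˣ) (s : Rt) : χ (io (dg α β)) s =
    ((ev2 (α * β⁻¹) (β * β * α⁻¹) (cfv s) : Fˣ) : F) := by
  rw [chi_eq ⟨_, io_dg_mem α β⟩, psi2_dg]

theorem conj_H {t : Grp F} (ht : t ∈ (R F).H) {S : List Rt} {v : Grp F} (hv : v ∈ XG F S) :
    t * v * t⁻¹ ∈ XG F S := by
  induction hv using Subgroup.closure_induction with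
  | mem x hx =>
    obtain ⟨r, hr, c, rfl⟩ := hx
    rw [conj_X ht]
    exact X_mem S hr _
  | one => simp
  | mul x y _ _ hx hy => simpa [mul_assoc] using mul_mem hx hy
  | inv x _ hx => simpa [mul_assoc] using inv_mem hx

/-- The Levi subgroup normalises the root lists normalised by both short simple root groups. -/
theorem io_conj {S : List Rt} (h7 : commB 0 S [7] S) (h4 : commB 0 S [4] S) (M : GL2) {v : Grp F}
    (hv : v ∈ XG F S) : io M * v * (io M)⁻¹ ∈ XG F S := by
  have h : ∀ B : SL2 F, phi 7 B ∈ Subgroup.normalizer (XG F S : Set (Grp F)) := fun B => by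
    have hle : Subgroup.closure (Set.range (slU (F := F)) ∪ Set.range slL) ≤
        (Subgroup.normalizer (XG F S : Set (Grp F))).comap (phi 7) := by
      refine (Subgroup.closure_le _).2 ?_
      rintro _ (⟨t, rfl⟩ | ⟨t, rfl⟩)
      · show phi 7 (slU t) ∈ Subgroup.normalizer (XG F S : Set (Grp F))
        rw [phi_U]
        exact XG_normalizes (F := F) Nat.cast_zero h7 (X_mem [7] (by simp) t)
      · show phi 7 (slL t) ∈ Subgroup.normalizer (XG F S : Set (Grp F))
        rw [phi_L]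
        exact XG_normalizes (F := F) Nat.cast_zero h4 (X_mem [4] (r := 4) (by simp) t)
    exact hle (sl_generated B)
  rw [io_apply]
  have := (Subgroup.mem_normalizer_iff.1 (h (slp M)) _).1 (conj_H (tau_mem (GeneralLinearGroup.det M)) hv)
  simpa [mul_assoc] using this

end Cfsg.Agent.G2Cover59
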