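import Cfsg.Agent.G2Cover59.Basic

/-!
Every element of G2(F) is conjugate into `U⁻ H U` (helper59).
-/

set_option autoImplicit false
set_option linter.unusedSectionVars false

namespace Cfsg.Agent.G2Cover59

open Cfsg.Lie Cfsg.Agent.G2Orders80 Cfsg.Agent.ChevCore Cfsg.Agent.ChevGroup Matrix

universe u

variable {F : Type u} [Field F] [Fintype F]

/-- all negative roots -/
def un : List Rt := [0, 1, 2, 3, 4, 5]

theorem phi_conj_mem {S : List Rt} {s : Rt} (h : commB 0 S [s] S) (h' : commB 0 S [negR s] S)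
    (B : SL2 F) {v : Grp F} (hv : v ∈ XG F S) : phi s B * v * (phi s B)⁻¹ ∈ XG F S := by
  have hle : Subgroup.closure (Set.range (slU (F := F)) ∪ Set.range slL) ≤
      (Subgroup.normalizer (XG F S : Set (Grp F))).comap (phi s) := by
    refine (Subgroup.closure_le _).2 ?_
    rintro _ (⟨t, rfl⟩ | ⟨t, rfl⟩)
    · show phi s (slU t) ∈ Subgroup.normalizer (XG F S : Set (Grp F))
      rw [phi_U]
      exact XG_normalizes (F := F) Nat.cast_zero h (X_mem [s] (by simp) t)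
    · show phi s (slL t) ∈ Subgroup.normalizer (XG F S : Set (Grp F))
      rw [phi_L]
      exact XG_normalizes (F := F) Nat.cast_zero h' (X_mem [negR s] (by simp) t)
  exact (Subgroup.mem_normalizer_iff.1 (hle (sl_generated B)) v).1 hv

theorem XG_u1 : XG F u1 = (R F).U := by
  refine le_antisymm ((Subgroup.closure_le _).2 ?_) U_le_XG
  rintro _ ⟨r, hr, c, rfl⟩
  exact Subgroup.subset_closure ⟨r, c, (pos_iff r).2 (by revert r; decide), rfl⟩

/-- `U U⁻ B`. -/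
def UVB (g : Grp F) : Prop :=
  ∃ u ∈ XG F u1, ∃ v ∈ XG F un, ∃ b ∈ (R F).B, g = u * v * b

theorem triangular_split (B : SL2 F) :
    ∃ a c : F, ((slL (-c) * slU (-a) * B : SL2 F) : Matrix (Fin 2) (Fin 2) F) 1 0 = 0 := by
  obtain ⟨p, q, r, s, hB⟩ : ∃ p q r s, (B : Matrix (Fin 2) (Fin 2) F) = !![p, q; r, s] :=
    ⟨_, _, _, _, eta_fin_two _⟩
  have hd := B.2
  rw [hB, det_fin_two_of] at hd
  by_cases hp : p = 0
  · have hr : r ≠ 0 := fun e => by simp [hp, e] at hd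
    refine ⟨1, r / (p - r), ?_⟩
    simp [Matrix.SpecialLinearGroup.coe_mul, coe_slL, coe_slU, hB, hp]
    field_simp
    simp
  · refine ⟨0, r / p, ?_⟩
    simp [Matrix.SpecialLinearGroup.coe_mul, coe_slL, coe_slU, hB]
    field_simp
    ring

theorem upper_mem_B {s : Rt} (hs : TypeG2.model.S.pos s) (B : SL2 F)
    (h : (B : Matrix (Fin 2) (Fin 2) F) 1 0 = 0) : phi s B ∈ (R F).B := by
  have hd := B.2
  rw [det_fin_two, h, mul_zero, sub_zero] at hd
  have hp : B.1 0 0 ≠ 0 := fun e => by simp [e] at hd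
  have e : B = ph slU slL (B.1 0 0) * slU (B.1 0 1 / B.1 0 0) := by
    refine Subtype.ext ?_
    rw [Matrix.SpecialLinearGroup.coe_mul, ph_sl hp, coe_slU]
    ext i j
    fin_cases i <;> fin_cases j <;> simp [h]
    · field_simp
    · exact eq_inv_of_mul_eq_one_right hd
  rw [e, map_mul, phi_ph, phi_U]
  exact mul_mem ((R F).H_le_B ((R F).hr_mem_H hp)) ((R F).x_mem_B hs _)

theorem UVB.phi_mul (s : Rt) (hs : TypeG2.model.S.pos s) {P Q : List Rt}
    (hP : commB 0 P [s] P) (hP' : commB 0 P [negR s] P) (hQ : commB 0 Q [s] Q)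
    (hQ' : commB 0 Q [negR s] Q) (hPu : ∀ r ∈ P, r ∈ u1) (hsu : s ∈ u1)
    (hQn : ∀ r ∈ Q, r ∈ un) (hsn : negR s ∈ un)
    (hu : ∀ r ∈ u1, r ∈ s :: P) (hv : ∀ r ∈ un, r ∈ Q ++ [negR s]) (B : SL2 F) {g : Grp F}
    (hg : UVB g) : UVB (phi s B * g) := by
  obtain ⟨u, hu', v, hv', b, hb, rfl⟩ := hg
  obtain ⟨a, u₀, hu₀, rfl⟩ := exists_split' hP (XG_mono hu hu')
  obtain ⟨v₀, hv₀, c, rfl⟩ := exists_split hQ' (XG_mono hv hv')
  set B₁ := B * slU a with hB₁
  set B₂ := B₁ * slL c with hB₂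
  obtain ⟨a', c', hT⟩ := triangular_split B₂
  set T := slL (-c') * slU (-a') * B₂ with hTd
  refine ⟨phi s B₁ * u₀ * (phi s B₁)⁻¹ * X s a', ?_,
    phi s (slU (-a') * B₁) * v₀ * (phi s (slU (-a') * B₁))⁻¹ * X (negR s) c', ?_,
    phi s T * b, mul_mem (upper_mem_B hs T hT) hb, ?_⟩
  · exact mul_mem (XG_mono hPu (phi_conj_mem hP hP' _ hu₀)) (X_mem u1 hsu _)
  · exact mul_mem (XG_mono hQn (phi_conj_mem hQ hQ' _ hv₀)) (X_mem un hsn _)
  · have eU : phi s (slU (-a')) = (X s a' : Grp F)⁻¹ := by rw [phi_U, X_neg]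
    have eL : phi s (slL (-c')) = (X (negR s) c' : Grp F)⁻¹ := by rw [phi_L, X_neg]
    simp only [hTd, hB₂, hB₁, map_mul, eU, eL, phi_U, phi_L]
    group

theorem UVB.U_mul {w g : Grp F} (hw : w ∈ (R F).U) (hg : UVB g) : UVB (w * g) := by
  obtain ⟨u, hu, v, hv, b, hb, rfl⟩ := hg
  exact ⟨w * u, mul_mem (XG_u1 (F := F) ▸ hw) hu, v, hv, b, hb, by group⟩

theorem UVB.H_mul {t g : Grp F} (ht : t ∈ (R F).H) (hg : UVB g) : UVB (t * g) := by
  obtain ⟨u, hu, v, hv, b, hb, rfl⟩ := hg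
  exact ⟨t * u * t⁻¹, conj_H ht hu, t * v * t⁻¹, conj_H ht hv, t * b,
    mul_mem ((R F).H_le_B ht) hb, by group⟩

theorem UVB.X_mul_7 (B : SL2 F) {g : Grp F} (hg : UVB g) : UVB (phi 7 B * g) :=
  hg.phi_mul 7 ((pos_iff 7).2 (by decide)) (P := [6, 8, 9, 10, 11]) (Q := [0, 1, 2, 3, 5])
    (by decide +kernel) (by decide +kernel) (by decide +kernel) (by decide +kernel)
    (by decide) (by decide) (by decide) (by decide) (by decide) (by decide) B

theorem UVB.X_mul_6 (B : SL2 F) {g : Grp F} (hg : UVB g) : UVB (phi 6 B * g) :=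
  hg.phi_mul 6 ((pos_iff 6).2 (by decide)) (P := [7, 8, 9, 10, 11]) (Q := [0, 1, 2, 3, 4])
    (by decide +kernel) (by decide +kernel) (by decide +kernel) (by decide +kernel)
    (by decide) (by decide) (by decide) (by decide) (by decide) (by decide) B

theorem phi_pn (s : Rt) (c : F) : phi s (pn slU slL c) = (R F).nr s c := by
  simp only [pn, map_mul, phi_U, phi_L]
  rfl

theorem n_eq_phi (i : Si) : ∃ B : SL2 F, ((R F).n i = phi 7 B) ∨ ((R F).n i = phi 6 B) := by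
  refine ⟨pn slU slL 1, ?_⟩
  fin_cases i
  · refine Or.inl ?_
    rw [phi_pn]
    show (R F).nr (TypeG2.model.S.simple (0 : Si)) 1 = _
    rw [show TypeG2.model.S.simple (0 : Si) = (7 : Rt) from Fin.ext simple_val.1]
  · refine Or.inr ?_
    rw [phi_pn]
    show (R F).nr (TypeG2.model.S.simple (1 : Si)) 1 = _
    rw [show TypeG2.model.S.simple (1 : Si) = (6 : Rt) from Fin.ext simple_val.2]

theorem uvb_all (g : Grp F) : UVB g := by
  obtain ⟨b, hb, w, -, b', hb', rfl⟩ := exists_bruhat g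
  have hw : ∀ w : List Si, UVB (nwG w * b') := by
    intro w
    induction w with
    | nil =>
      refine ⟨1, one_mem _, 1, one_mem _, b', hb', ?_⟩
      rw [one_mul, one_mul, show (nwG ([] : List Si) : Grp F) = 1 from (R F).nw_nil, one_mul]
    | cons i w ih =>
      rw [show (nwG (i :: w) : Grp F) = (R F).n i * nwG w from (R F).nw_cons i w, mul_assoc]
      obtain ⟨B, e | e⟩ := n_eq_phi (F := F) i
      · exact e ▸ ih.X_mul_7 B
      · exact e ▸ ih.X_mul_6 B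
  obtain ⟨u, hu, h, hh, rfl⟩ := (R F).mem_B_iff.1 hb
  rw [mul_assoc, mul_assoc]
  exact ((hw w).H_mul hh).U_mul hu

/-- Gauss decomposition up to conjugacy. -/
theorem exists_gauss (g : Grp F) : ∃ l : Grp F, ∃ v ∈ XG F un, ∃ h ∈ (R F).H, ∃ u ∈ XG F u1,
    l * g * l⁻¹ = v * h * u := by
  obtain ⟨u, hu, v, hv, b, hb, rfl⟩ := uvb_all g
  obtain ⟨u', hu', h, hh, rfl⟩ := (R F).mem_B_iff.1 hb
  refine ⟨u⁻¹, v, hv, h, hh, (h⁻¹ * u' * h) * u,
    mul_mem (by simpa using conj_H (inv_mem hh) (XG_u1 (F := F) ▸ hu' : u' ∈ XG F u1)) hu, ?_⟩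
  group

end Cfsg.Agent.G2Cover59
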