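import Cfsg.Agent.G2Cover59.Regular

/-!
A semisimple class of G2(F) whose square covers the non-identity elements (helper59).
-/

set_option autoImplicit false
set_option linter.unusedSectionVars false

namespace Cfsg.Agent.G2Cover59

open Cfsg.Lie Cfsg.Agent.G2Orders80 Cfsg.Agent.ChevCore Cfsg.Agent.ChevGroup Matrix

universe u

variable {F : Type u} [Field F] [Fintype F]

local notation "GL2" => GL (Fin 2) F

/-- the hypotheses on the Levi element -/
structure Setup (x : GL (Fin 2) F) : Prop where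
  disc : tr x ^ 2 ≠ 4 * dt x
  det_ne : dt x ≠ 1
  power : ∃ (k : ℕ) (s : Fˣ), s ≠ 1 ∧ (k : F) ≠ 0 ∧ x ^ k = dg s s
  split : (dt x ^ 2 ≠ 1 ∧ (tr x = 0 ∨ (2 : F) = 0)) ∨ ((3 : F) = 0 ∧ tr x = 1 ∧ dt x = -1 ∧
    ∀ a : F, a = 0 ∨ a = 1 ∨ a = -1)

theorem val_mid (c d : F) (α β : Fˣ) :
    ((lwr c * dg α β * upr d : GL (Fin 2) F) : Matrix (Fin 2) (Fin 2) F) =
      !![(α : F), α * d; c * α, c * α * d + β] := by
  rw [Units.val_mul, Units.val_mul, val_lwr, val_dg, val_upr]
  ext i j
  fin_cases i <;> fin_cases j <;> simp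

theorem data_mid (c d : F) (α β : Fˣ) :
    tr (lwr c * dg α β * upr d : GL (Fin 2) F) = α + c * α * d + β ∧
      dt (lwr c * dg α β * upr d : GL (Fin 2) F) = α * β := by
  constructor
  · rw [tr, val_mid, trace_fin_two_of]; ring
  · rw [dt, val_mid, det_fin_two_of]; ring

theorem upr_zero : (upr 0 : GL (Fin 2) F) = 1 := Units.ext (by
  rw [val_upr]; ext i j; fin_cases i <;> fin_cases j <;> simp)

variable {x : GL (Fin 2) F} {g : Grp F}

/-- an element having a conjugate in `U_P⁻ M U_P` with `M` a product of two members -/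
def Good (x : GL (Fin 2) F) (g : Grp F) : Prop := ∃ M, Cell g M ∧ Two x M

/-- the admissible determinants -/
def Adm (x : GL (Fin 2) F) (D : F) : Prop := D = 1 ∨ D = dt x ^ 2

theorem good_of_disc (hx : Setup x) {M : GL (Fin 2) F} (hg : Cell g M) (hD : Adm x (dt M))
    (h : tr M ^ 2 ≠ 4 * dt M) : Good x g := by
  refine ⟨M, hg, ?_⟩
  have hn : ((2 : F) ≠ 0) ∨ ((2 : F) = 0 ∧ tr M ≠ 0) := by
    by_cases h2 : (2 : F) = 0
    · exact Or.inr ⟨h2, fun e => h (by rw [e]; linear_combination (-2 * dt M) * h2)⟩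
    · exact Or.inl h2
  rcases hD with hD | hD
  · exact two_nonscalar hx.disc (not_scal_of_disc h) (Or.inl ⟨rfl, hD⟩)
      (hn.imp (fun h2 => ⟨h2, Or.inl h⟩) id)
  · exact two_nonscalar hx.disc (not_scal_of_disc h) (Or.inr ⟨rfl, hD⟩)
      (hn.imp (fun h2 => ⟨h2, Or.inl h⟩) id)

variable (hx : Setup x) (hN2 : dt x ^ 2 ≠ 1) (hT : tr x = 0 ∨ (2 : F) = 0)

include hx hT in
theorem good_of_scalar {M : GL (Fin 2) F} (hg : Cell g M) {s : F}
    (hs : (M : Matrix (Fin 2) (Fin 2) F) = !![s, 0; 0, s]) (hA : Adm x (s * s)) : Good x g := by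
  refine ⟨M, hg, two_scalar hx.disc hs ?_⟩
  have h1 : s = 1 ∨ s = -1 ∨ s = dt x ∨ s = -dt x := by
    rcases hA with h | h
    · rcases mul_self_eq_one_iff.1 h with h | h
      · exact Or.inl h
      · exact Or.inr (Or.inl h)
    · rw [pow_two] at h
      rcases mul_self_eq_mul_self_iff.1 h with h | h
      · exact Or.inr (Or.inr (Or.inl h))
      · exact Or.inr (Or.inr (Or.inr h))
  rcases hT with hT | h2
  · tauto
  · have hn : ∀ a : F, -a = a := fun a => by linear_combination (-a) * h2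
    rw [hn, hn] at h1
    tauto

include hx hN2 in
theorem good_low {w' c e : F} {s : Fˣ} {f w : F} (hA : Adm x ((s : F) * s))
    (h : St g w' c e s s f 0 w) (he : e ≠ 0) : Good x g := by
  have hN := dt_ne x
  obtain ⟨t, ht1, hD⟩ : ∃ t : Fˣ, (t : F) ≠ 1 ∧ Adm x ((s : F) * (t * s)) := by
    rcases hA with hA | hA
    · refine ⟨Units.mk0 (dt x ^ 2) (pow_ne_zero _ hN), hN2, Or.inr ?_⟩
      rw [mul_left_comm, hA, mul_one, Units.val_mk0]
    · refine ⟨Units.mk0 (dt x ^ 2)⁻¹ (inv_ne_zero (pow_ne_zero _ hN)), ?_, Or.inl ?_⟩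
      · rw [Units.val_mk0, ne_eq, inv_eq_one]; exact hN2
      · rw [mul_left_comm, hA, Units.val_mk0, inv_mul_cancel₀ (pow_ne_zero _ hN)]
  obtain ⟨w', c, e', f, w, h'⟩ := h.move_six (((t : F) - 1) / e) t
    (by rw [div_mul_cancel₀ _ he]; ring)
  obtain ⟨htr, hdt⟩ := data_mid c (0 : F) s (t * s)
  refine good_of_disc hx h'.cell (by rw [hdt, Units.val_mul]; exact hD) ?_
  rw [htr, hdt, Units.val_mul]
  intro e0
  have h2 : ((s : F) * (1 - t)) ^ 2 = 0 := by linear_combination e0
  exact mul_ne_zero s.ne_zero (sub_ne_zero.2 (Ne.symm ht1)) (pow_eq_zero_iff two_ne_zero |>.1 h2)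

include hx hT in
theorem good_diag {w' e : F} {s : Fˣ} {f w : F} (hA : Adm x ((s : F) * s))
    (h : St g w' 0 e s s f 0 w) : Good x g :=
  good_of_scalar hx hT h.cell (by rw [val_mid]; simp) hA

include hx in
/-- no lower middle part, non-zero upper part along the short root -/
theorem good_short {c : F} {s : Fˣ} {w : F} (hA : Adm x ((s : F) * s)) (hc : c ≠ 0) (hw : w ≠ 0)
    (h : St g 0 c 0 s s 0 0 w) : Good x g := by
  obtain ⟨u, hu⟩ : ∃ u : F, u * (u + 4) ≠ 0 := by
    by_cases h2 : (2 : F) = 0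
    · exact ⟨1, by rw [show (4 : F) = 2 * 2 by norm_num, h2]; simp⟩
    · exact ⟨-2, by rw [show -2 * (-2 + (4 : F)) = -(2 * 2) by ring]; simp [h2]⟩
  obtain ⟨w', h'⟩ := h.conj_five (u / (c * w)) 1 (by simp)
  rw [one_mul] at h'
  obtain ⟨htr, hdt⟩ := data_mid c (u / (c * w) * w) s s
  refine good_of_disc hx h'.cell (by rw [hdt]; exact hA) ?_
  rw [htr, hdt]
  intro e0
  have e1 : c * s * (u / (c * w) * w) = s * u := by field_simp
  rw [e1] at e0
  have h2 : ((s : F) * s) * (u * (u + 4)) = 0 := by linear_combination e0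
  exact mul_ne_zero (mul_ne_zero s.ne_zero s.ne_zero) hu h2

theorem chi_six_scalar (s : Fˣ) : χ (io (dg s s)) 6 = (s : F) ∧ χ (io (dg s s)) 5 = (s : F)⁻¹ := by
  rw [chi_dg, chi_dg, show cfv 6 = (0, 1) by decide, show cfv 5 = (0, -1) by decide]
  constructor <;> simp [ev2]

include hx hN2 hT in
/-- scalar torus part different from one -/
theorem good_ne_one {w' c e : F} {s : Fˣ} {f w : F} (hA : Adm x ((s : F) * s)) (hs : (s : F) ≠ 1)
    (h : St g w' c e s s f 0 w) : Good x g := by
  by_cases he : e = 0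
  swap
  · exact good_low hx hN2 hA h he
  subst he
  by_cases hw' : w' = 0
  swap
  · obtain ⟨w₂, h'⟩ := h.conj_six (c / w')
    rw [div_mul_cancel₀ _ hw', sub_self] at h'
    exact good_diag hx hT hA h'
  subst hw'
  by_cases hc : c = 0
  · subst hc
    exact good_diag hx hT hA h
  obtain ⟨h6, h5⟩ := chi_six_scalar s
  obtain ⟨w₂, h'⟩ := h.conj_six (f * s / (s - 1))
  rw [h6, mul_zero, sub_zero] at h'
  rw [show (s : F)⁻¹ * (f * s / (s - 1)) + f - f * s / (s - 1) = 0 by
    have := s.ne_zero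
    have := sub_ne_zero.2 hs
    field_simp
    ring] at h'
  by_cases hw : w₂ = 0
  · subst hw
    obtain ⟨w', h''⟩ := h'.conj_five 1 1 (by simp)
    rw [h5, one_mul, one_mul, Units.val_one, zero_div, div_one, mul_one] at h''
    refine good_low hx hN2 hA h'' fun e0 => hs ?_
    rw [sub_eq_zero, eq_comm, inv_eq_one] at e0
    exact e0
  · exact good_short hx hA hc hw h'

include hx hN2 hT in
theorem good_scalar_torus {w' c e : F} {s : Fˣ} {f w : F} (hA : Adm x ((s : F) * s))
    (h : St g w' c e s s f 0 w) : Good x g := by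
  by_cases hs : (s : F) ≠ 1
  · exact good_ne_one hx hN2 hT hA hs h
  rw [not_not, Units.val_eq_one] at hs
  subst hs
  by_cases he : e = 0
  swap
  · exact good_low hx hN2 hA h he
  subst he
  by_cases hw' : w' = 0
  swap
  · obtain ⟨w₂, h'⟩ := h.conj_six (c / w')
    rw [div_mul_cancel₀ _ hw', sub_self] at h'
    exact good_diag hx hT hA h'
  subst hw'
  by_cases hc : c = 0
  · subst hc
    exact good_diag hx hT hA h
  by_cases hf : f = 0
  · subst hf
    by_cases hw : w = 0
    · subst hw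
      exact ⟨1, h.flat, two_scalar hx.disc (s := 1) (by ext i j; fin_cases i <;> fin_cases j <;> simp)
        (Or.inl rfl)⟩
    · exact good_short hx hA hc hw h
  have hN := dt_ne x
  set τ : Fˣ := Units.mk0 (dt x ^ 2) (pow_ne_zero _ hN) with hτd
  obtain ⟨w₂, h'⟩ := h.conj_five ((1 - dt x ^ 2) / f) τ (by
    rw [div_mul_cancel₀ _ hf, hτd, Units.val_mk0]; ring)
  rw [mul_one] at h'
  obtain ⟨htr, hdt⟩ := data_mid c ((1 - dt x ^ 2) / f * w) 1 τ
  rw [Units.val_one, one_mul, hτd, Units.val_mk0] at hdt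
  set M := lwr c * dg 1 τ * upr ((1 - dt x ^ 2) / f * w)
  by_cases hΔ : tr M ^ 2 = 4 * dt M
  swap
  · exact good_of_disc hx h'.cell (Or.inr hdt) hΔ
  have hn : ¬ Scal M := not_scal_of_lower (by rw [val_mid]; simpa using hc)
  obtain ⟨s, hs2, hconj⟩ := exists_jordan hn hΔ
  rw [hdt] at hs2
  obtain ⟨w', c', e', f', w₃, h''⟩ := (h'.cell.of_isConj hconj).st_lower
  exact good_ne_one hx hN2 hT (Or.inr hs2) (fun e1 => hN2 (by rw [← hs2, e1, one_mul])) h''

omit hx hN2 hT in
theorem exists_det_one (g : Grp F) : ∃ M, Cell g M ∧ dt M = 1 := by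
  obtain ⟨w', c, e, α, β, f, d, w, h⟩ := exists_st g
  set M := lwr c * dg α β * upr d with hM
  by_cases hD : dt M = 1
  · exact ⟨M, h.cell, hD⟩
  have fin : ∀ {w' c e : F} {α β : Fˣ} {f d w : F}, St g w' c e α β f d w →
      (e ≠ 0 ∨ f ≠ 0 ∨ (β : F) * β ≠ α) → ∃ M, Cell g M ∧ dt M = 1 := by
    intro w' c e α β f d w h hne
    obtain ⟨w', c, e, f, d, w, h'⟩ := h.move_b hne ((α * β)⁻¹)
    refine ⟨_, h'.cell, ?_⟩
    rw [(data_mid _ _ _ _).2, Units.val_mul, Units.val_inv_eq_inv_val, Units.val_mul]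
    have := α.ne_zero
    have := β.ne_zero
    field_simp
  by_cases hne : e ≠ 0 ∨ f ≠ 0 ∨ (β : F) * β ≠ α
  · exact fin h hne
  push Not at hne
  have hb : (β : F) * β = α := hne.2.2
  have hn : ¬ Scal M := by
    rintro ⟨s, hs⟩
    refine hD ?_
    rw [hM, val_mid] at hs
    have e00 : (α : F) = s := congrFun (congrFun hs 0) 0
    have e01 : (α : F) * d = 0 := congrFun (congrFun hs 0) 1
    have e11 : c * (α : F) * d + β = s := congrFun (congrFun hs 1) 1
    rw [mul_assoc, e01, mul_zero, zero_add] at e11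
    have hb1 : (β : F) = 1 := mul_left_cancel₀ β.ne_zero (by rw [hb, mul_one, e00, e11])
    rw [hM, (data_mid c d α β).2, ← hb, hb1]; ring
  obtain ⟨α', hα'⟩ : ∃ a : Fˣ, dt M * dt M ≠ (a : F) ^ 3 := by
    by_cases h2 : dt M * dt M = 1
    · refine ⟨-1, fun e3 => hD ?_⟩
      have h0 : dt M = -1 := (mul_self_eq_one_iff.1 h2).resolve_left hD
      rw [h2] at e3
      simp [pow_succ] at e3
      rw [h0, ← e3]
    · exact ⟨1, by simpa using h2⟩
  obtain ⟨β', d', hab, hconj⟩ := exists_rep hn α'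
  obtain ⟨w', c', e', f', d'', w'', h'⟩ := (h.cell.of_isConj hconj).st
  exact fin h' (Or.inr (Or.inr fun e2 => hα' (by rw [← hab, ← e2]; ring)))

include hx in
theorem good_all (g : Grp F) : Good x g := by
  obtain ⟨M, hg, hD⟩ := exists_det_one g
  rcases hx.split with ⟨hN2, hT⟩ | ⟨h3, hT, hN, hF⟩
  · by_cases hs : Scal M
    · obtain ⟨s, hs⟩ := hs
      refine good_of_scalar hx hT hg hs (Or.inl ?_)
      rw [← hD, dt, hs, det_fin_two_of]; ring
    by_cases hΔ : tr M ^ 2 = 4 * dt M
    · obtain ⟨s, hs2, hconj⟩ := exists_jordan hs hΔ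
      obtain ⟨w', c', e', f', w, h⟩ := (hg.of_isConj hconj).st_lower
      exact good_scalar_torus hx hN2 hT (Or.inl (hs2.trans hD)) h
    · exact good_of_disc hx hg (Or.inl hD) hΔ
  · refine ⟨M, hg, ?_⟩
    have h2 : (2 : F) ≠ 0 := fun e => one_ne_zero (α := F) (by linear_combination h3 - e)
    by_cases hs : Scal M
    · obtain ⟨s, hs⟩ := hs
      refine two_scalar hx.disc hs ?_
      have : s * s = 1 := by rw [← hD, dt, hs, det_fin_two_of]; ring
      rcases mul_self_eq_one_iff.1 this with h | h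
      · exact Or.inl h
      · exact Or.inr (Or.inl (by rw [h, hN]))
    by_cases hΔ : tr M * tr x = 2 * tr x
    · refine two_nonscalar hx.disc hs (Or.inr ⟨rfl, by rw [hD, hN]; ring⟩) (Or.inl ⟨h2, Or.inr ?_⟩)
      intro e
      rw [hT, mul_one] at hΔ e
      rw [hN] at e
      exact one_ne_zero (α := F) (by linear_combination e - hΔ - h3 * 1)
    · exact two_nonscalar hx.disc hs (Or.inl ⟨rfl, hD⟩) (Or.inl ⟨h2, Or.inr hΔ⟩)

include hx in
theorem cx_isConj {c : GL (Fin 2) F} (hc : Cx x c) : IsConj (io x) (io c) := by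
  rcases hc with hc | hc
  · exact io.map_isConj hc
  · exact (io_real hx.disc).trans (io.map_isConj hc)

include hx in
theorem radical_class {c : GL (Fin 2) F} (hc : Cx x c) :
    (∀ v ∈ XG F qn, IsConj (io x) (v * io c)) ∧ (∀ u ∈ XG F qp, IsConj (io x) (io c * u)) := by
  obtain ⟨k, s, hs, -, hk⟩ := hx.power
  have hreg : ∀ v : Grp F, (v ∈ XG F qn ∨ v ∈ XG F qp) → io c * v = v * io c → v = 1 := by
    have key : ∀ (y : GL (Fin 2) F) (m : GL (Fin 2) F) (t : Fˣ), t ≠ 1 → y ^ k = dg t t → dt y ≠ 1 →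
        c = m * y * m⁻¹ → ∀ v : Grp F, (v ∈ XG F qn ∨ v ∈ XG F qp) → io c * v = v * io c →
        v = 1 := by
      intro y m t ht hy hN hcy v hv e
      have hk' : c ^ k = dg t t := by
        rw [hcy, conj_pow, hy]
        refine Units.ext ?_
        rw [Units.val_mul, Units.val_mul, val_dg,
          show !![(t : F), 0; 0, (t : F)] = (t : F) • (1 : Matrix (Fin 2) (Fin 2) F) by
            ext i j; fin_cases i <;> fin_cases j <;> simp,
          mul_smul_comm, Matrix.mul_one, smul_mul_assoc, Units.mul_inv]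
      have hd : dt c ≠ 1 := by rw [(tr_of_isConj (isConj_iff.2 ⟨m, hcy.symm⟩)).2]; exact hN
      rcases hv with hv | hv
      · exact qn_regular ht hk' hd hv e
      · exact qp_regular ht hk' hd hv e
    rcases hc with hc | hc <;> obtain ⟨m, hm⟩ := isConj_iff.1 hc
    · exact key x m s hs hk hx.det_ne hm.symm
    · refine key x⁻¹ m s⁻¹ (by simpa using hs) ?_ ?_ hm.symm
      · rw [inv_pow, hk]
        refine inv_eq_of_mul_eq_one_right (Units.ext ?_)
        rw [Units.val_mul, val_dg, val_dg]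
        ext i j; fin_cases i <;> fin_cases j <;> simp
      · rw [(inv_data x).2, one_div, ne_eq, inv_eq_one]; exact hx.det_ne
  constructor
  · exact fun v hv => (cx_isConj hx hc).trans
      (isConj_radical (by decide +kernel) (by decide +kernel) c (fun v hv => hreg v (Or.inl hv)) hv).1
  · exact fun u hu => (cx_isConj hx hc).trans
      (isConj_radical (by decide +kernel) (by decide +kernel) c (fun v hv => hreg v (Or.inr hv)) hu).2

include hx in
theorem cover (g : Grp F) :
    ∃ a b : Grp F, g = (a * io x * a⁻¹) * (b * io x * b⁻¹) := by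
  obtain ⟨M, ⟨l, v, hv, u, hu, he⟩, c, y, hc, hy, rfl⟩ := good_all hx g
  obtain ⟨a, ha⟩ := isConj_iff.1 ((radical_class hx hc).1 v hv)
  obtain ⟨b, hb⟩ := isConj_iff.1 ((radical_class hx hy).2 u hu)
  refine ⟨l⁻¹ * a, l⁻¹ * b, ?_⟩
  rw [map_mul] at he
  calc g = l⁻¹ * (l * g * l⁻¹) * l := by group
    _ = l⁻¹ * ((v * io c) * (io y * u)) * l := by rw [he]; group
    _ = _ := by rw [← ha, ← hb]; group

omit hx hN2 hT in
theorem dg_pow (s : Fˣ) : ∀ n : ℕ, (dg s s : GL (Fin 2) F) ^ n = dg (s ^ n) (s ^ n)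
  | 0 => by
    refine Units.ext ?_
    rw [pow_zero, pow_zero, val_dg]
    ext i j; fin_cases i <;> fin_cases j <;> simp
  | n + 1 => by
    refine Units.ext ?_
    rw [pow_succ, dg_pow s n, Units.val_mul, val_dg, val_dg, val_dg, pow_succ]
    ext i j; fin_cases i <;> fin_cases j <;> simp

include hx in
theorem not_dvd_order {p : ℕ} [Fact p.Prime] [CharP F p] : ¬ p ∣ orderOf (io x) := by
  obtain ⟨k, s, -, hk0, hk⟩ := hx.power
  intro h
  have h1 : io x ^ (k * (Fintype.card F - 1)) = 1 := by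
    classical
    have e1 := dg_pow s 0
    rw [pow_zero, pow_zero] at e1
    rw [← map_pow, pow_mul, hk, dg_pow, ← Fintype.card_units, pow_card_eq_one, ← e1, map_one]
  have h2 : ((k * (Fintype.card F - 1) : ℕ) : F) = 0 :=
    (CharP.cast_eq_zero_iff F p _).2 (h.trans (orderOf_dvd_of_pow_eq_one h1))
  rw [Nat.cast_mul, Nat.cast_sub Fintype.card_pos, Nat.cast_card_eq_zero, Nat.cast_one, zero_sub,
    mul_neg, mul_one, neg_eq_zero] at h2
  exact hk0 h2

omit hx hN2 hT in
/-- the companion matrix -/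
def comp (T : F) (N : Fˣ) : GL (Fin 2) F :=
  gl !![0, -(N : F); 1, T] (by simp [det_fin_two])

omit hx hN2 hT in
theorem comp_data (T : F) (N : Fˣ) : tr (comp T N) = T ∧ dt (comp T N) = (N : F) := by
  constructor <;> simp [tr, dt, comp, val_gl, trace_fin_two, det_fin_two]

omit hx hN2 hT in
theorem exists_setup (h3 : 3 ≤ Fintype.card F) : ∃ x : GL (Fin 2) F, Setup x := by
  classical
  have small : ∀ l : List F, l.length < Fintype.card F → ∃ a : F, a ∉ l := by
    intro l hl
    by_contra hc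
    push Not at hc
    have : (Finset.univ : Finset F) ⊆ l.toFinset := fun a _ => List.mem_toFinset.2 (hc a)
    have := (Finset.card_le_card this).trans (List.toFinset_card_le l)
    rw [Finset.card_univ] at this
    omega
  have four : (4 : F) = 2 * 2 := by norm_num
  by_cases h2 : (2 : F) = 0
  · have hneg : ∀ a : F, -a = a := fun a => by linear_combination (-a) * h2
    by_cases hT : ∃ T : F, T ≠ 0 ∧ T ^ 3 ≠ 1
    · obtain ⟨T, hT0, hT3⟩ := hT
      have hN1 : T ^ 2 ≠ 1 := fun e => hT3 (by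
        have : (T - 1) ^ 2 = 0 := by linear_combination e - (T - 1) * h2
        rw [sub_eq_zero.1 (eq_zero_of_pow_eq_zero this)]; ring)
      obtain ⟨e1, e2⟩ := comp_data T (Units.mk0 (T ^ 2) (pow_ne_zero _ hT0))
      rw [Units.val_mk0] at e2
      refine ⟨comp T (Units.mk0 (T ^ 2) (pow_ne_zero _ hT0)), ?_, by rw [e2]; exact hN1,
        ⟨3, Units.mk0 (T ^ 3) (pow_ne_zero _ hT0), ?_, ?_, ?_⟩, Or.inl ⟨?_, Or.inr h2⟩⟩
      · rw [e1, e2, four, h2]; simpa using hT0
      · exact fun e => hT3 (congrArg Units.val e)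
      · intro e; exact one_ne_zero (α := F) (by push_cast at e; linear_combination e - h2)
      · refine Units.ext ?_
        rw [pow_three, Units.val_mul, Units.val_mul, val_dg]
        ext i j
        fin_cases i <;> fin_cases j <;> simp [comp, val_gl, hneg] <;> grind
      · rw [e2]
        intro e
        have : (T ^ 2 - 1) ^ 2 = 0 := by linear_combination e - (T ^ 2 - 1) * h2
        exact hN1 (sub_eq_zero.1 (eq_zero_of_pow_eq_zero this))
    · push Not at hT
      obtain ⟨N, hN⟩ := small [0, 1] (by simp; omega)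
      simp only [List.mem_cons, List.not_mem_nil, or_false, not_or] at hN
      have hq : N ^ 2 + N + 1 = 0 := by
        refine mul_left_cancel₀ (sub_ne_zero.2 hN.2) ?_
        linear_combination hT N hN.1
      obtain ⟨e1, e2⟩ := comp_data (1 : F) (Units.mk0 N hN.1)
      rw [Units.val_mk0] at e2
      refine ⟨comp 1 (Units.mk0 N hN.1), ?_, by rw [e2]; exact hN.2,
        ⟨5, Units.mk0 N hN.1, ?_, ?_, ?_⟩, Or.inl ⟨?_, Or.inr h2⟩⟩
      · rw [e1, e2, four, h2]; simp
      · exact fun e => hN.2 (congrArg Units.val e)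
      · intro e; exact one_ne_zero (α := F) (by push_cast at e; linear_combination e - 2 * h2)
      · refine Units.ext ?_
        rw [show (5 : ℕ) = 1 + 1 + 1 + 1 + 1 from rfl]
        simp only [pow_add, pow_one, Units.val_mul, val_dg, comp, val_gl, Units.val_mk0, hneg]
        ext i j
        fin_cases i <;> fin_cases j <;> simp <;> grind
      · rw [e2]
        intro e
        have : (N - 1) ^ 2 = 0 := by linear_combination e - (N - 1) * h2
        exact hN.2 (sub_eq_zero.1 (eq_zero_of_pow_eq_zero this))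
  · by_cases hall : ∀ a : F, a = 0 ∨ a = 1 ∨ a = -1
    · have h30 : (3 : F) = 0 := by
        rcases hall 2 with h | h | h
        · exact absurd h h2
        · exact absurd (by linear_combination h : (1 : F) = 0) one_ne_zero
        · linear_combination h
      obtain ⟨e1, e2⟩ := comp_data (1 : F) (-1)
      rw [Units.val_neg, Units.val_one] at e2
      refine ⟨comp 1 (-1), ?_, ?_, ⟨4, -1, ?_, ?_, ?_⟩, Or.inr ⟨h30, e1, e2, hall⟩⟩
      · rw [e1, e2]; intro e; exact h2 (by linear_combination e - h30)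
      · rw [e2]; intro e; exact h2 (by linear_combination -e)
      · intro e
        have := congrArg Units.val e
        rw [Units.val_neg, Units.val_one] at this
        exact h2 (by linear_combination -this)
      · push_cast; rw [four]; exact mul_ne_zero h2 h2
      · refine Units.ext ?_
        rw [show (4 : ℕ) = 1 + 1 + 1 + 1 from rfl]
        simp only [pow_add, pow_one, Units.val_mul, val_dg, comp, val_gl, Units.val_neg, Units.val_one]
        ext i j
        fin_cases i <;> fin_cases j <;> simp <;> grind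
    · push Not at hall
      obtain ⟨N, h0, h1, hm⟩ := hall
      obtain ⟨e1, e2⟩ := comp_data (0 : F) (Units.mk0 N h0)
      rw [Units.val_mk0] at e2
      refine ⟨comp 0 (Units.mk0 N h0), ?_, by rw [e2]; exact h1,
        ⟨2, -Units.mk0 N h0, ?_, by simpa using h2, ?_⟩, Or.inl ⟨?_, Or.inl e1⟩⟩
      · rw [e1, e2, four]
        simpa using (mul_ne_zero (mul_ne_zero h2 h2) h0).symm
      · intro e
        have := congrArg Units.val e
        rw [Units.val_neg, Units.val_one, Units.val_mk0] at this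
        exact hm (by linear_combination -this)
      · refine Units.ext ?_
        rw [pow_two, Units.val_mul, val_dg]
        ext i j
        fin_cases i <;> fin_cases j <;> simp [comp, val_gl]
      · rw [e2, pow_two]
        exact fun e => (mul_self_eq_one_iff.1 e).elim h1 hm

end Cfsg.Agent.G2Cover59
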