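import Cfsg.Agent.G2Cover59.Basic

/-!
Products of two conjugates of a regular element of GL2 or of its inverse (helper59).
-/

set_option autoImplicit false
set_option linter.unusedSectionVars false

namespace Cfsg.Agent.G2Cover59

open Matrix

variable {F : Type*} [Field F]

attribute [-simp] Matrix.coe_units_inv

local notation "GL2" => GL (Fin 2) F

/-- scalar matrices -/
def Scal (M : GL2) : Prop := ∃ s : F, (M : Matrix (Fin 2) (Fin 2) F) = !![s, 0; 0, s]

theorem val_gl (M : Matrix (Fin 2) (Fin 2) F) (h : M.det ≠ 0) :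
    ((gl M h : GL2) : Matrix (Fin 2) (Fin 2) F) = M := rfl

theorem val_upr (a : F) : ((upr a : GL2) : Matrix (Fin 2) (Fin 2) F) = !![1, a; 0, 1] := rfl

theorem val_lwr (a : F) : ((lwr a : GL2) : Matrix (Fin 2) (Fin 2) F) = !![1, 0; a, 1] := rfl

theorem val_dg (α β : Fˣ) :
    ((dg α β : GL2) : Matrix (Fin 2) (Fin 2) F) = !![(α : F), 0; 0, (β : F)] := rfl

/-- trace -/
def tr (M : GL2) : F := (M : Matrix (Fin 2) (Fin 2) F).trace

/-- determinant -/
def dt (M : GL2) : F := (M : Matrix (Fin 2) (Fin 2) F).det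

theorem dt_ne (M : GL2) : dt M ≠ 0 := by
  rw [dt, ← GeneralLinearGroup.val_det_apply]
  exact Units.ne_zero _

theorem dt_mul (M M' : GL2) : dt (M * M') = dt M * dt M' := by rw [dt, Units.val_mul, det_mul]; rfl

theorem tr_of_isConj {M M' : GL2} (h : IsConj M M') : tr M' = tr M ∧ dt M' = dt M := by
  obtain ⟨z, rfl⟩ := isConj_iff.1 h
  constructor
  · rw [tr, Units.val_mul, Units.val_mul, trace_units_conj]; rfl
  · rw [dt, Units.val_mul, Units.val_mul, det_units_conj]; rfl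

theorem exists_comp (M : GL2) (h : ¬ Scal M) : ∃ z : GL2,
    (M : Matrix (Fin 2) (Fin 2) F) * z = (z : Matrix (Fin 2) (Fin 2) F) * !![0, -dt M; 1, tr M] := by
  obtain ⟨p, q, r, s, hM⟩ : ∃ p q r s : F, (M : Matrix (Fin 2) (Fin 2) F) = !![p, q; r, s] :=
    ⟨_, _, _, _, eta_fin_two _⟩
  obtain ⟨v0, v1, hv⟩ : ∃ v0 v1 : F, v0 * (r * v0 + s * v1) - v1 * (p * v0 + q * v1) ≠ 0 := by
    by_contra hc
    push Not at hc
    have hr : r = 0 := by simpa using hc 1 0
    have hq : q = 0 := by simpa using hc 0 1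
    have := hc 1 1
    simp [hr, hq] at this
    refine h ⟨p, ?_⟩
    rw [hM, hr, hq, show s = p by linear_combination this]
  refine ⟨gl !![v0, p * v0 + q * v1; v1, r * v0 + s * v1]
    (by simp [det_fin_two]; intro h0; exact hv (by linear_combination h0)), ?_⟩
  rw [val_gl, tr, dt, hM]
  ext i j
  fin_cases i <;> fin_cases j <;> simp [trace_fin_two, det_fin_two] <;> ring

theorem isConj_of {M M' : GL2} (h : ¬ Scal M) (h' : ¬ Scal M') (ht : tr M = tr M')
    (hd : dt M = dt M') : IsConj M M' := by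
  obtain ⟨z, hz⟩ := exists_comp M h
  obtain ⟨w, hw⟩ := exists_comp M' h'
  rw [← ht, ← hd] at hw
  refine isConj_iff.2 ⟨w * z⁻¹, ?_⟩
  rw [mul_inv_eq_iff_eq_mul]
  refine Units.ext ?_
  set C : Matrix (Fin 2) (Fin 2) F := !![0, -dt M; 1, tr M]
  have e1 : (z⁻¹ : GL2).1 * M.1 = C * (z⁻¹ : GL2).1 := by
    calc (z⁻¹ : GL2).1 * M.1 = (z⁻¹ : GL2).1 * (M.1 * z.1) * (z⁻¹ : GL2).1 := by
          rw [Matrix.mul_assoc _ (M.1 * z.1), Matrix.mul_assoc M.1, Units.mul_inv, Matrix.mul_one]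
      _ = C * (z⁻¹ : GL2).1 := by rw [hz, ← Matrix.mul_assoc (z⁻¹ : GL2).1, Units.inv_mul, Matrix.one_mul]
  rw [Units.val_mul, Units.val_mul, Units.val_mul, Matrix.mul_assoc, e1, ← Matrix.mul_assoc,
    ← hw, Matrix.mul_assoc, Units.val_mul]

theorem not_scal_of_disc {M : GL2} (h : tr M ^ 2 ≠ 4 * dt M) : ¬ Scal M := fun ⟨s, hs⟩ =>
  h (by rw [tr, dt, hs]; simp [trace_fin_two, det_fin_two]; ring)

theorem not_scal_of_lower {M : GL2} (h : (M : Matrix (Fin 2) (Fin 2) F) 1 0 ≠ 0) : ¬ Scal M :=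
  fun ⟨s, hs⟩ => h (by rw [hs]; rfl)

/-- conjugates of `x` or of its inverse -/
def Cx (x y : GL2) : Prop := IsConj x y ∨ IsConj x⁻¹ y

/-- products of two members -/
def Two (x M : GL2) : Prop := ∃ c y, Cx x c ∧ Cx x y ∧ M = c * y

theorem Two.of_isConj {x M M' : GL2} (h : Two x M) (hc : IsConj M M') : Two x M' := by
  obtain ⟨c, y, hcc, hy, rfl⟩ := h
  obtain ⟨z, rfl⟩ := isConj_iff.1 hc
  have key : ∀ w : GL2, IsConj w (z * w * z⁻¹) := fun w => isConj_iff.2 ⟨z, rfl⟩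
  exact ⟨z * c * z⁻¹, z * y * z⁻¹, hcc.imp (fun h => h.trans (key c)) (fun h => h.trans (key c)),
    hy.imp (fun h => h.trans (key y)) (fun h => h.trans (key y)), by group⟩

theorem inv_data (x : GL2) : tr x⁻¹ = tr x / dt x ∧ dt x⁻¹ = 1 / dt x := by
  have hd := dt_ne x
  have h2 : dt x⁻¹ * dt x = 1 := by rw [← dt_mul, inv_mul_cancel]; simp [dt]
  refine ⟨?_, eq_one_div_of_mul_eq_one_left h2⟩
  rw [tr, coe_units_inv, inv_def, Ring.inverse_eq_inv', trace_smul, adjugate_fin_two, tr, dt]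
  simp [trace_fin_two]
  ring

variable [Finite F]

theorem exists_conic {D τ σ T N : F}
    (h : ((2 : F) ≠ 0 ∧ (τ ^ 2 ≠ 4 * D ∨ τ * T ≠ 2 * σ)) ∨ ((2 : F) = 0 ∧ τ ≠ 0)) :
    ∃ a e : F, a ^ 2 + τ * a * e + D * e ^ 2 - T * a - σ * e + N = 0 := by
  haveI : Fintype F := Fintype.ofFinite F
  rcases h with ⟨h2, h⟩ | ⟨h2, hτ⟩
  · by_cases hΔ : τ ^ 2 = 4 * D
    · have hl : 2 * τ * T - 4 * σ ≠ 0 := fun e => (h.resolve_left (not_not.2 hΔ))
        (mul_left_cancel₀ h2 (by linear_combination e))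
      refine ⟨(T - τ * ((T ^ 2 - 4 * N) / (2 * τ * T - 4 * σ))) / 2,
        (T ^ 2 - 4 * N) / (2 * τ * T - 4 * σ), ?_⟩
      set e := (T ^ 2 - 4 * N) / (2 * τ * T - 4 * σ) with he
      have he' : e * (2 * τ * T - 4 * σ) = T ^ 2 - 4 * N := div_mul_cancel₀ _ hl
      have h4 : (4 : F) ≠ 0 := by
        rw [show (4 : F) = 2 * 2 by norm_num]; exact mul_ne_zero h2 h2
      refine mul_left_cancel₀ h4 ?_
      field_simp
      linear_combination he' - e ^ 2 * hΔ
    · have hodd : Fintype.card F % 2 = 1 := by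
        refine FiniteField.odd_card_of_char_ne_two fun hc => h2 ?_
        haveI := CharP.congr (R := F) (ringChar F) hc
        exact CharP.cast_eq_zero F 2
      open Polynomial in
      obtain ⟨u, e, hue⟩ := FiniteField.exists_root_sum_quadratic
        (f := (X ^ 2 : F[X]))
        (g := C (-(τ ^ 2 - 4 * D)) * X ^ 2 + C (2 * τ * T - 4 * σ) * X + C (4 * N - T ^ 2)) (by simp)
        (degree_quadratic (neg_ne_zero.2 (sub_ne_zero.2 hΔ))) hodd
      simp only [Polynomial.eval_pow, Polynomial.eval_X, Polynomial.eval_add, Polynomial.eval_mul,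
        Polynomial.eval_C] at hue
      refine ⟨(u + T - τ * e) / 2, e, ?_⟩
      have h4 : (4 : F) ≠ 0 := by
        rw [show (4 : F) = 2 * 2 by norm_num]; exact mul_ne_zero h2 h2
      refine mul_left_cancel₀ h4 ?_
      field_simp
      linear_combination hue
  · haveI : CharP F 2 := (CharP.charP_iff_prime_eq_zero Nat.prime_two).2 h2
    obtain ⟨a, ha⟩ := FiniteField.isSquare_of_char_two (F := F) (ringChar.eq F 2)
      (-(D * (T / τ) ^ 2 - σ * (T / τ) + N))
    refine ⟨a, T / τ, ?_⟩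
    have e : τ * (T / τ) = T := mul_div_cancel₀ _ hτ
    linear_combination (-1 : F) * ha + a * e

theorem exists_split_trace {D τ σ T N : F} (hN : N ≠ 0)
    (h : ((2 : F) ≠ 0 ∧ (τ ^ 2 ≠ 4 * D ∨ τ * T ≠ 2 * σ)) ∨ ((2 : F) = 0 ∧ τ ≠ 0)) :
    ∃ c : GL2, tr c = T ∧ dt c = N ∧
      (adjugate (c : Matrix (Fin 2) (Fin 2) F) * !![0, -D; 1, τ]).trace = σ := by
  obtain ⟨a, e, he⟩ := exists_conic (N := N) h
  refine ⟨gl !![a, e * D + τ * a - σ; e, T - a] (by
    rw [det_fin_two_of]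
    refine fun h0 => hN ?_
    linear_combination h0 + he), ?_, ?_, ?_⟩
  · simp [tr, val_gl, trace_fin_two]
  · rw [dt, val_gl, det_fin_two_of]; linear_combination -he
  · rw [val_gl, adjugate_fin_two]; simp [trace_fin_two]; ring

/-- the two admissible determinants -/
theorem two_nonscalar {x M : GL2} (hx : tr x ^ 2 ≠ 4 * dt x) (hM : ¬ Scal M) {σ : F}
    (hcase : (σ = tr x ∧ dt M = 1) ∨ (σ = dt x * tr x ∧ dt M = dt x ^ 2))
    (h : ((2 : F) ≠ 0 ∧ (tr M ^ 2 ≠ 4 * dt M ∨ tr M * tr x ≠ 2 * σ)) ∨ ((2 : F) = 0 ∧ tr M ≠ 0)) :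
    Two x M := by
  obtain ⟨z, hz⟩ := exists_comp M hM
  obtain ⟨c, hct, hcd, hs⟩ := exists_split_trace (T := tr x) (N := dt x) (dt_ne x) h
  set K : GL2 := gl !![0, -dt M; 1, tr M] (by simp [det_fin_two]; exact dt_ne M)
  have hMK : IsConj K M := isConj_iff.2 ⟨z, by
    rw [mul_inv_eq_iff_eq_mul]; exact Units.ext (by rw [Units.val_mul, Units.val_mul]; exact hz.symm)⟩
  refine Two.of_isConj ?_ hMK
  have hc : IsConj x c := isConj_of (not_scal_of_disc hx)
    (not_scal_of_disc (by rw [hct, hcd]; exact hx)) hct.symm hcd.symm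
  refine ⟨c, c⁻¹ * K, Or.inl hc, ?_, by group⟩
  have hyd : dt (c⁻¹ * K) = dt M / dt x := by
    rw [dt_mul, (inv_data c).2, hcd]; simp [dt, K, val_gl, det_fin_two]; ring
  have hyt : tr (c⁻¹ * K) = σ / dt x := by
    rw [tr, Units.val_mul, coe_units_inv, inv_def, Ring.inverse_eq_inv', smul_mul_assoc, trace_smul,
      show (c : Matrix (Fin 2) (Fin 2) F).det = dt x from hcd, val_gl, hs, smul_eq_mul]
    ring
  have hd0 := dt_ne x
  rcases hcase with ⟨rfl, hD⟩ | ⟨rfl, hD⟩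
  · rw [hD] at hyd
    have hdisc : tr (c⁻¹ * K) ^ 2 ≠ 4 * dt (c⁻¹ * K) := by
      rw [hyt, hyd]; intro e; field_simp at e; exact hx (by linear_combination e)
    exact Or.inr (isConj_of (not_scal_of_disc (by
      rw [(inv_data x).1, (inv_data x).2]; intro e; field_simp at e; exact hx (by linear_combination e)))
      (not_scal_of_disc hdisc) (by rw [(inv_data x).1, hyt]) (by rw [(inv_data x).2, hyd]))
  · rw [hD] at hyd
    have e1 : dt x * tr x / dt x = tr x := mul_div_cancel_left₀ _ hd0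
    have e2 : dt x ^ 2 / dt x = dt x := by rw [pow_two, mul_div_cancel_left₀ _ hd0]
    rw [e1] at hyt
    rw [e2] at hyd
    exact Or.inl (isConj_of (not_scal_of_disc hx) (not_scal_of_disc (by rw [hyt, hyd]; exact hx))
      hyt.symm hyd.symm)

theorem two_scalar {x M : GL2} (hx : tr x ^ 2 ≠ 4 * dt x) {s : F}
    (hs : (M : Matrix (Fin 2) (Fin 2) F) = !![s, 0; 0, s])
    (h : s = 1 ∨ s = dt x ∨ (tr x = 0 ∧ (s = -1 ∨ s = -dt x))) : Two x M := by
  refine ⟨x, x⁻¹ * M, Or.inl (IsConj.refl _), ?_, by group⟩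
  have hd0 := dt_ne x
  have hyd : dt (x⁻¹ * M) = s ^ 2 / dt x := by
    rw [dt_mul, (inv_data x).2]; simp [dt, hs, det_fin_two]; ring
  have hyt : tr (x⁻¹ * M) = s * tr x / dt x := by
    rw [mul_div_assoc, ← (inv_data x).1, tr, Units.val_mul, hs,
      show !![s, 0; 0, s] = s • (1 : Matrix (Fin 2) (Fin 2) F) by
        ext i j; fin_cases i <;> fin_cases j <;> simp,
      mul_smul_comm, Matrix.mul_one, trace_smul]
    rfl
  have hxi : ¬ Scal x⁻¹ := not_scal_of_disc (by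
    rw [(inv_data x).1, (inv_data x).2]; intro e; field_simp at e; exact hx (by linear_combination e))
  have hxn : ¬ Scal x := not_scal_of_disc hx
  have hs0 : s ≠ 0 := fun e => dt_ne M (by simp [dt, hs, e, det_fin_two])
  have hn : ¬ Scal (x⁻¹ * M) := not_scal_of_disc (by
    rw [hyt, hyd]
    intro e
    field_simp at e
    exact hx (by linear_combination e))
  have one : s * tr x / dt x = tr x / dt x → s ^ 2 = 1 → Cx x (x⁻¹ * M) := fun a b =>
    Or.inr (isConj_of hxi hn (by rw [(inv_data x).1, hyt, a]) (by rw [(inv_data x).2, hyd, b]))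
  have two : s * tr x / dt x = tr x → s ^ 2 = dt x ^ 2 → Cx x (x⁻¹ * M) := fun a b =>
    Or.inl (isConj_of hxn hn (by rw [hyt, a]) (by
      rw [hyd, b, pow_two, mul_div_cancel_left₀ _ hd0]))
  rcases h with rfl | rfl | ⟨hT, rfl | rfl⟩
  · exact one (by rw [one_mul]) (by ring)
  · exact two (mul_div_cancel_left₀ _ hd0) rfl
  · exact one (by simp [hT]) (by ring)
  · exact two (by simp [hT]) (by ring)

/-- a non-scalar matrix with a double eigenvalue is conjugate to a lower triangular one -/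
theorem exists_jordan {M : GL2} (hM : ¬ Scal M) (h : tr M ^ 2 = 4 * dt M) : ∃ s : Fˣ,
    (s : F) * s = dt M ∧ IsConj M (lwr 1 * dg s s) := by
  haveI : Fintype F := Fintype.ofFinite F
  obtain ⟨s, hs1, hs2⟩ : ∃ s : F, 2 * s = tr M ∧ s * s = dt M := by
    by_cases h2 : (2 : F) = 0
    · haveI : CharP F 2 := (CharP.charP_iff_prime_eq_zero Nat.prime_two).2 h2
      obtain ⟨s, hs⟩ := FiniteField.isSquare_of_char_two (F := F) (ringChar.eq F 2) (dt M)
      refine ⟨s, ?_, hs.symm⟩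
      have : tr M ^ 2 = 0 := by linear_combination h + 2 * dt M * h2
      rw [eq_zero_of_pow_eq_zero this, h2, zero_mul]
    · refine ⟨tr M / 2, mul_div_cancel₀ _ h2, ?_⟩
      field_simp
      linear_combination h
  have hs0 : s ≠ 0 := fun e => dt_ne M (by rw [← hs2, e, mul_zero])
  refine ⟨Units.mk0 s hs0, hs2, isConj_of hM (not_scal_of_lower ?_) ?_ ?_⟩
  · simpa [val_lwr, val_dg, Units.val_mul] using hs0
  · rw [← hs1]; simp [tr, val_lwr, val_dg, Units.val_mul, trace_fin_two]; ring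
  · rw [← hs2]; simp [dt, val_lwr, val_dg, Units.val_mul, det_fin_two]

/-- a non-scalar matrix has a representative with any prescribed first torus coordinate -/
theorem exists_rep {M : GL2} (hM : ¬ Scal M) (α : Fˣ) : ∃ β : Fˣ, ∃ d : F,
    (α : F) * β = dt M ∧ IsConj M (lwr 1 * dg α β * upr d) := by
  refine ⟨Units.mk0 (dt M / α) (div_ne_zero (dt_ne M) α.ne_zero),
    (tr M - α - dt M / α) / α, mul_div_cancel₀ _ α.ne_zero, isConj_of hM (not_scal_of_lower ?_) ?_ ?_⟩
  · simp [val_lwr, val_dg, val_upr, Units.val_mul]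
  · simp [tr, val_lwr, val_dg, val_upr, Units.val_mul, trace_fin_two]
    field_simp
    ring
  · simp [dt, val_lwr, val_dg, val_upr, Units.val_mul, det_fin_two]
    field_simp
    ring

end Cfsg.Agent.G2Cover59
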