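import Cfsg.Agent.G2Cover59.States

/-!
A Levi element with a power equal to a central scalar absorbs both radicals; reality (helper59).
-/

set_option autoImplicit false
set_option linter.unusedSectionVars false

namespace Cfsg.Agent.G2Cover59

open Cfsg.Lie Cfsg.Agent.G2Orders80 Cfsg.Agent.ChevCore Cfsg.Agent.ChevGroup Matrix

universe u

variable {F : Type u} [Field F] [Fintype F]

local notation "GL2" => GL (Fin 2) F

theorem X_low {c : F} (h : (X 4 c : Grp F) ∈ (R F).U) : c = 0 := by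
  let M := TypeG2.model.shapeR (relsOfCommGood uGoodG2.toCommGood F)
  have h1 := M.eq_one_of_low h (M.uni_neg (7 : Rt) c ((pos_iff 7).2 (by decide)))
  exact X_inj 4 (h1.trans (X_zero 4).symm)

theorem XG_le_U {S : List Rt} (h : ∀ r ∈ S, 6 ≤ (r : Rt).val) : XG F S ≤ (R F).U :=
  Subgroup.closure_mono fun _ ⟨r, hr, c, e⟩ => ⟨r, c, (pos_iff r).2 (h r hr), e⟩

theorem X_seven_not_qp {d : F} (h : (X 7 d : Grp F) ∈ XG F qp) : d = 0 := by
  obtain ⟨e, he, hc⟩ := nwG_conj_X (F := F) [(0 : Si)] 7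
  have h1 := XG_le_U (by decide) (nw_map (T := qp) [(0 : Si)] (by decide) h)
  rw [hc, show wact [(0 : Si)] 7 = 4 by decide] at h1
  have := X_low h1
  calc d = e * (e * d) := by rw [← mul_assoc, he, one_mul]
    _ = 0 := by rw [this, mul_zero]

/-- the radical centralizer of a suitable torus element -/
theorem qp_fixed {t : Grp F} (ht : t ∈ (R F).H)
    (hk : ∀ r ∈ posR, χ t r = 1 → r ∈ ([7, 11] : List Rt)) {v : Grp F} (hv : v ∈ XG F qp)
    (e : t * v = v * t) : ∃ c : F, v = X 11 c := by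
  have h1 := mem_killedU ht (XG_le_U (by decide) hv) e
  have h2 : v ∈ XG F ([11] ++ [7]) := by
    refine (Subgroup.closure_le _).2 ?_ h1
    rintro _ ⟨r, hr, c, hc, rfl⟩
    refine X_mem _ ?_ c
    have := hk r hr hc
    simp at this ⊢
    tauto
  obtain ⟨a, ha, d, rfl⟩ := exists_split (S := [11]) (s := 7) (by decide +kernel) h2
  have hd := X_seven_not_qp ((mul_mem_cancel_left (XG_mono (T := qp) (by decide) ha)).1 hv)
  obtain ⟨b, hb, c, rfl⟩ := exists_split (S := ([] : List Rt)) (s := 11) (by decide +kernel) ha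
  rw [XG_nil, Subgroup.mem_bot] at hb
  exact ⟨c, by rw [hb, hd, X_zero, one_mul, mul_one]⟩

theorem phi7_comm11 (B C : SL2 F) : phi 7 B * phi 11 C = (phi 11 C * phi 7 B : Grp F) :=
  phi_comm (P := ((7 : Rt), (11 : Rt))) orth_cert B C

theorem chi_tau (d : Fˣ) :
    χ (tau d) 11 = (d : F) ∧ χ (tau d) 0 = ((d⁻¹ : Fˣ) : F) := by
  rw [chi_eq ⟨tau d, tau_mem d⟩, chi_eq ⟨tau d, tau_mem d⟩, psi2_tau,
    show cfv 11 = (3, 2) by decide, show cfv 0 = (-3, -2) by decide]
  have := d.ne_zero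
  constructor <;> simp [ev2] <;> field_simp

theorem io_X11 (M : GL2) (c : F) :
    (io M * X 11 c * (io M)⁻¹ : Grp F) = X 11 (dt M * c) ∧
      (io M * X 0 c * (io M)⁻¹ : Grp F) = X 0 (c / dt M) := by
  have hd : ((GeneralLinearGroup.det M : Fˣ) : F) = dt M := rfl
  obtain ⟨h1, h0⟩ := chi_tau (GeneralLinearGroup.det M)
  have ht := tau_mem (GeneralLinearGroup.det M)
  have e11 : ∀ a, phi 7 (slp M) * X 11 a = (X 11 a * phi 7 (slp M) : Grp F) := fun a => by
    rw [← phi_U]; exact phi7_comm11 _ _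
  have e0 : ∀ a, phi 7 (slp M) * X 0 a = (X 0 a * phi 7 (slp M) : Grp F) := fun a => by
    rw [show (X 0 a : Grp F) = phi 11 (slL a) by rw [phi_L]; rfl]; exact phi7_comm11 _ _
  constructor
  · rw [io_apply, show ∀ a b x : Grp F, a * b * x * (a * b)⁻¹ = a * (b * x * b⁻¹) * a⁻¹ from
      fun a b x => by group, conj_X ht, h1, hd, e11, mul_inv_cancel_right]
  · rw [io_apply, show ∀ a b x : Grp F, a * b * x * (a * b)⁻¹ = a * (b * x * b⁻¹) * a⁻¹ from
      fun a b x => by group, conj_X ht, h0, Units.val_inv_eq_inv_val, hd, e0, mul_inv_cancel_right,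
      div_eq_inv_mul]

theorem chi_scalar (s : Fˣ) (hs : s ≠ 1) :
    ∀ r ∈ posR, χ (io (dg s s)) r = 1 → r ∈ ([7, 11] : List Rt) := by
  intro r hr h
  have key : ∀ r ∈ posR, r ∈ ([7, 11] : List Rt) ∨ (cfv r).2 = 1 := by decide
  refine (key r hr).resolve_right fun h2 => hs ?_
  rw [chi_dg, ev2, h2, mul_inv_cancel, _root_.one_zpow, mul_inv_cancel_right, _root_.zpow_one, one_mul] at h
  exact Units.val_eq_one.1 h

variable {x : GL (Fin 2) F} {k : ℕ} {s : Fˣ}

theorem commute_scalar (hk : x ^ k = dg s s) {v : Grp F} (e : io x * v = v * io x) :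
    io (dg s s) * v = v * io (dg s s) := by
  rw [← hk, map_pow]
  exact Commute.pow_left e k

theorem qp_regular (hs : s ≠ 1) (hk : x ^ k = dg s s) (hN : dt x ≠ 1) {v : Grp F}
    (hv : v ∈ XG F qp) (e : io x * v = v * io x) : v = 1 := by
  obtain ⟨c, rfl⟩ := qp_fixed (io_dg_mem s s) (chi_scalar s hs) hv (commute_scalar hk e)
  have h := (io_X11 x c).1
  rw [e, mul_inv_cancel_right] at h
  have h' := X_inj 11 h
  rw [show c = 0 from by_contra fun hc => hN (mul_right_cancel₀ hc (by rw [← h', one_mul])), X_zero]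

theorem qn_regular (hs : s ≠ 1) (hk : x ^ k = dg s s) (hN : dt x ≠ 1) {v : Grp F}
    (hv : v ∈ XG F qn) (e : io x * v = v * io x) : v = 1 := by
  set w : List Si := [0, 1, 0, 1, 0, 1]
  have hw : ∀ r : Rt, wact w r = negR r := by decide
  have ht := io_dg_mem (F := F) s s
  set z := io (dg s s)
  have ht' : nwG w * z * (nwG w)⁻¹ ∈ (R F).H := nw_conj_H w ht
  have hk' : ∀ r ∈ posR, χ (nwG w * z * (nwG w)⁻¹) r = 1 → r ∈ ([7, 11] : List Rt) := by
    intro r hr h
    have h' := chi_conj w ht (negR r)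
    rw [hw, show negR (negR r) = r from (by decide : ∀ r : Rt, negR (negR r) = r) r, h, chi_negR ht, eq_comm, inv_eq_one] at h'
    exact chi_scalar s hs r hr h'
  have hv' := nw_map (T := qp) w (S := qn) (by decide) hv
  obtain ⟨c, hc⟩ := qp_fixed ht' hk' hv' (by
    have := commute_scalar hk e
    calc nwG w * z * (nwG w)⁻¹ * (nwG w * v * (nwG w)⁻¹) = nwG w * (z * v) * (nwG w)⁻¹ := by group
      _ = _ := by rw [show z * v = v * z from this]; group)
  obtain ⟨ε, hε, he⟩ := nwG_conj_X (F := F) w 0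
  obtain rfl : v = X 0 (ε * c) := by
    have h1 := he (ε * c)
    rw [hw, show negR (0 : Rt) = 11 by decide, ← mul_assoc, hε, one_mul, ← hc] at h1
    exact mul_left_cancel (mul_right_cancel h1.symm)
  have h := (io_X11 x (ε * c)).2
  rw [e, mul_inv_cancel_right] at h
  have h' := X_inj 0 h
  rw [eq_div_iff (dt_ne x)] at h'
  rw [show ε * c = 0 from by_contra fun hc => hN (mul_left_cancel₀ hc (h'.trans (mul_one _).symm)),
    X_zero]

/-- translates of a regular element by a radical are conjugate to it -/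
theorem isConj_radical {S : List Rt} (h7 : commB 0 S [7] S) (h4 : commB 0 S [4] S) (x : GL2)
    (hreg : ∀ v ∈ XG F S, io x * v = v * io x → v = 1) {u : Grp F} (hu : u ∈ XG F S) :
    IsConj (io x) (u * io x) ∧ IsConj (io x) (io x * u) := by
  have key : ∀ u ∈ XG F S, IsConj (io x) (u * io x) := by
    intro u hu
    let φ : XG F S → XG F S := fun v =>
      ⟨v.1 * (io x * v.1⁻¹ * (io x)⁻¹), mul_mem v.2 (io_conj h7 h4 x (inv_mem v.2))⟩
    have hinj : Function.Injective φ := by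
      rintro ⟨a, ha⟩ ⟨b, hb⟩ h
      have h1 : a * (io x * a⁻¹ * (io x)⁻¹) = b * (io x * b⁻¹ * (io x)⁻¹) := congrArg Subtype.val h
      have h2 := hreg (b⁻¹ * a) (mul_mem (inv_mem hb) ha) (by
        calc io x * (b⁻¹ * a) = b⁻¹ * (b * (io x * b⁻¹ * (io x)⁻¹)) * io x * a := by group
          _ = _ := by rw [← h1]; group)
      exact Subtype.ext (inv_mul_eq_one.1 h2).symm
    obtain ⟨v, hv⟩ := (Finite.injective_iff_surjective.1 hinj) ⟨u, hu⟩
    refine isConj_iff.2 ⟨v.1, ?_⟩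
    have hv' : v.1 * (io x * v.1⁻¹ * (io x)⁻¹) = u := congrArg Subtype.val hv
    rw [← hv']
    group
  refine ⟨key u hu, ?_⟩
  have := key _ (io_conj h7 h4 x hu)
  rwa [inv_mul_cancel_right] at this

/-- the inverse of a Levi element with distinct eigenvalues is conjugate to it in G2(F) -/
theorem io_real (hx : tr x ^ 2 ≠ 4 * dt x) : IsConj (io x) (io x⁻¹) := by
  set d := GeneralLinearGroup.det x
  have ed : (d : F) = dt x := rfl
  set n : Grp F := phi 11 (pn slU slL 1) with hn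
  have h7 : n * phi 7 (slp x) = phi 7 (slp x) * n := (phi7_comm11 _ _).symm
  have ht := tau_mem d
  have hc : n * tau d * n⁻¹ = tau d * io (dg d⁻¹ d⁻¹) := by
    have hp : (pn slU slL 1 * dconj (χ (tau d) 11) (chi_ne_zero ht 11) (pn slU slL 1)⁻¹ : SL2 F) =
        ph slU slL ((d⁻¹ : Fˣ) : F) := by
      refine Subtype.ext ?_
      rw [Matrix.SpecialLinearGroup.coe_mul, coe_dconj, Matrix.SpecialLinearGroup.coe_inv,
        pn_sl one_ne_zero, ph_sl (d⁻¹).ne_zero, (chi_tau d).1]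
      ext i j
      fin_cases i <;> fin_cases j <;> simp [adjugate_fin_two]
    have hz : (R F).hr 11 ((d⁻¹ : Fˣ) : F) = io (dg d⁻¹ d⁻¹) := by
      have h11 := (R F).hr_mem_H (r := (11 : Rt)) (d⁻¹).ne_zero
      have hpr : chevG2.pairing 11 7 = 0 ∧ chevG2.pairing 11 6 = 1 := by decide +kernel
      have h1 : (⟨_, h11⟩ : ↥(R F).H) = ⟨_, io_dg_mem d⁻¹ d⁻¹⟩ := by
        refine psi2_injective ?_
        have a7 := chi_hr (F := F) 11 7 (d⁻¹).ne_zero
        have a6 := chi_hr (F := F) 11 6 (d⁻¹).ne_zero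
        rw [chi_eq ⟨_, h11⟩, show cfv 7 = (1, 0) by decide, show ((7 : Rt) : ℕ) = 7 from rfl,
          show ((11 : Rt) : ℕ) = 11 from rfl, hpr.1, ev2] at a7
        rw [chi_eq ⟨_, h11⟩, show cfv 6 = (0, 1) by decide, show ((6 : Rt) : ℕ) = 6 from rfl,
          show ((11 : Rt) : ℕ) = 11 from rfl, hpr.2, ev2] at a6
        rw [psi2_dg]
        refine Prod.ext (Units.ext ?_) (Units.ext ?_)
        · simp at a7 ⊢; exact a7
        · simp at a6 ⊢; exact a6
      exact congrArg Subtype.val h1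
    calc n * tau d * n⁻¹ = n * (tau d * phi 11 (pn slU slL 1)⁻¹ * (tau d)⁻¹) * tau d := by
          rw [map_inv, ← hn]; group
      _ = (R F).hr 11 ((d⁻¹ : Fˣ) : F) * tau d := by
          rw [phi_conj ht, hn, ← map_mul, hp, phi_ph]; rfl
      _ = _ := by rw [hz]; exact H_commute (io_dg_mem _ _) ht
  have h1 : IsConj (io x) (io (x * dg d⁻¹ d⁻¹)) := by
    refine isConj_iff.2 ⟨n, ?_⟩
    rw [map_mul, io_apply x, show n * (phi 7 (slp x) * tau d) * n⁻¹ =
      (n * phi 7 (slp x)) * tau d * n⁻¹ by group, h7, mul_assoc, mul_assoc, ← mul_assoc n, hc,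
      ← mul_assoc]
  refine h1.trans (io.map_isConj ?_)
  obtain ⟨i1, i2⟩ := inv_data x
  have hd0 := dt_ne x
  obtain ⟨p, q, r, t, hM⟩ : ∃ p q r t : F, (x : Matrix (Fin 2) (Fin 2) F) = !![p, q; r, t] :=
    ⟨_, _, _, _, eta_fin_two _⟩
  have et : tr (x * dg d⁻¹ d⁻¹) = tr x⁻¹ := by
    rw [i1, tr, tr, Units.val_mul, val_dg, hM, Units.val_inv_eq_inv_val, ed]
    simp [trace_fin_two]
    ring
  have edt : dt (x * dg d⁻¹ d⁻¹) = dt x⁻¹ := by
    rw [i2, dt_mul, show dt (dg d⁻¹ d⁻¹) = ((d⁻¹ : Fˣ) : F) * ((d⁻¹ : Fˣ) : F) by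
      simp [dt, val_dg, det_fin_two], Units.val_inv_eq_inv_val, ed]
    field_simp
  have hdi : tr x⁻¹ ^ 2 ≠ 4 * dt x⁻¹ := by
    rw [i1, i2]; intro e; field_simp at e; exact hx (by linear_combination e)
  exact isConj_of (not_scal_of_disc (by rw [et, edt]; exact hdi)) (not_scal_of_disc hdi) et edt

end Cfsg.Agent.G2Cover59
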