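import Cfsg.Agent.G2Cover59.Gauss
import Cfsg.Agent.G2Cover59.Pair

/-!
Gauss decompositions relative to the short-root Levi subgroup and their moves (helper59).
-/

set_option autoImplicit false
set_option linter.unusedSectionVars false

namespace Cfsg.Agent.G2Cover59

open scoped commutatorElement
open Cfsg.Lie Cfsg.Agent.G2Orders80 Cfsg.Agent.ChevCore Cfsg.Agent.ChevGroup Matrix

universe u

variable {F : Type u} [Field F] [Fintype F]

local notation "GL2" => GL (Fin 2) F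

/-- roots of the radical -/
def qp : List Rt := [6, 8, 9, 10, 11]

/-- roots of the opposite radical -/
def qn : List Rt := [0, 1, 2, 3, 5]

/-- a conjugate lies in `U_P⁻ M U_P` -/
def Cell (g : Grp F) (M : GL2) : Prop :=
  ∃ l : Grp F, ∃ v ∈ XG F qn, ∃ u ∈ XG F qp, l * g * l⁻¹ = v * io M * u

/-- the full form with the coordinates used by the moves -/
def St (g : Grp F) (w' c e : F) (α β : Fˣ) (f d w : F) : Prop :=
  ∃ l : Grp F, ∃ v ∈ XG F [0, 1, 2], ∃ u ∈ XG F [9, 10, 11],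
    l * g * l⁻¹ = v * X 3 w' * X 4 c * X 5 e * io (dg α β) * X 6 f * X 7 d * X 8 w * u

theorem Cell.of_isConj {g : Grp F} {M M' : GL2} (h : Cell g M) (hc : IsConj M M') : Cell g M' := by
  obtain ⟨l, v, hv, u, hu, e⟩ := h
  obtain ⟨z, rfl⟩ := isConj_iff.1 hc
  refine ⟨io z * l, io z * v * (io z)⁻¹, io_conj (by decide +kernel) (by decide +kernel) z hv,
    io z * u * (io z)⁻¹, io_conj (by decide +kernel) (by decide +kernel) z hu, ?_⟩
  rw [map_mul, map_mul, map_inv,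
    show io z * l * g * (io z * l)⁻¹ = io z * (l * g * l⁻¹) * (io z)⁻¹ by group, e]
  group

theorem St.cell {g : Grp F} {w' c e : F} {α β : Fˣ} {f d w : F} (h : St g w' c e α β f d w) :
    Cell g (lwr c * dg α β * upr d) := by
  obtain ⟨l, v, hv, u, hu, he⟩ := h
  refine ⟨l, v * X 3 w' * (X 4 c * X 5 e * (X 4 c)⁻¹), ?_,
    (X 7 d)⁻¹ * X 6 f * X 7 d * (X 8 w * u), ?_, ?_⟩
  · exact mul_mem (mul_mem (XG_mono (by decide) hv) (X_mem _ (by decide) _))
      (conj_mem (A := [4]) (by decide +kernel) (X_mem _ (by decide) _) (X_mem qn (by decide) _))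
  · refine mul_mem ?_ (mul_mem (X_mem _ (by decide) _) (XG_mono (by decide) hu))
    have := conj_mem (F := F) (S := qp) (A := [7]) (by decide +kernel)
      (inv_mem (X_mem [7] (r := 7) (by decide) d)) (X_mem qp (r := 6) (by decide) f)
    rwa [inv_inv] at this
  · rw [he, map_mul, map_mul, io_lwr, io_upr]
    group

theorem un_split {v : Grp F} (hv : v ∈ XG F un) : ∃ v₀ ∈ XG F [0, 1, 2], ∃ w' c e : F,
    v = v₀ * X 3 w' * X 4 c * X 5 e := by
  obtain ⟨a, ha, e, rfl⟩ := exists_split (S := [0, 1, 2, 3, 4]) (s := 5) (by decide +kernel)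
    (XG_mono (T := [0, 1, 2, 3, 4] ++ [5]) (by decide) hv)
  obtain ⟨b, hb, c, rfl⟩ := exists_split (S := [0, 1, 2, 3]) (s := 4) (by decide +kernel)
    (XG_mono (T := [0, 1, 2, 3] ++ [4]) (by decide) ha)
  obtain ⟨v₀, h₀, w', rfl⟩ := exists_split (S := [0, 1, 2]) (s := 3) (by decide +kernel)
    (XG_mono (T := [0, 1, 2] ++ [3]) (by decide) hb)
  exact ⟨v₀, h₀, w', c, e, rfl⟩

theorem lb_split {v : Grp F} (hv : v ∈ XG F [0, 1, 2, 3, 4]) : ∃ v₀ ∈ XG F [0, 1, 2], ∃ w' c : F,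
    v = v₀ * X 3 w' * X 4 c := by
  obtain ⟨b, hb, c, rfl⟩ := exists_split (S := [0, 1, 2, 3]) (s := 4) (by decide +kernel)
    (XG_mono (T := [0, 1, 2, 3] ++ [4]) (by decide) hv)
  obtain ⟨v₀, h₀, w', rfl⟩ := exists_split (S := [0, 1, 2]) (s := 3) (by decide +kernel)
    (XG_mono (T := [0, 1, 2] ++ [3]) (by decide) hb)
  exact ⟨v₀, h₀, w', c, rfl⟩

theorem high_split {u : Grp F} (hu : u ∈ XG F [8, 9, 10, 11]) : ∃ w : F, ∃ u₀ ∈ XG F [9, 10, 11],
    u = X 8 w * u₀ :=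
  exists_split' (by decide +kernel) hu

theorem u1_split {u : Grp F} (hu : u ∈ XG F u1) : ∃ f d w : F, ∃ u₀ ∈ XG F [9, 10, 11],
    u = X 6 f * X 7 d * X 8 w * u₀ := by
  obtain ⟨f, a, ha, rfl⟩ := exists_split' (S := [7, 8, 9, 10, 11]) (s := 6) (by decide +kernel) hu
  obtain ⟨d, b, hb, rfl⟩ := exists_split' (S := [8, 9, 10, 11]) (s := 7) (by decide +kernel) ha
  obtain ⟨w, u₀, h₀, rfl⟩ := high_split hb
  exact ⟨f, d, w, u₀, h₀, by group⟩

theorem exists_dg {h : Grp F} (hh : h ∈ (R F).H) : ∃ α β : Fˣ, h = io (dg α β) := by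
  obtain ⟨A, B, e⟩ : ∃ A B, psi2 ⟨h, hh⟩ = (A, B) := ⟨_, _, rfl⟩
  refine ⟨A * A * B, A * B, ?_⟩
  have h1 : (⟨h, hh⟩ : ↥(R F).H) = ⟨_, io_dg_mem (A * A * B) (A * B)⟩ := by
    refine psi2_injective ?_
    rw [e, psi2_dg]
    refine Prod.ext ?_ ?_ <;> simp only <;> apply Units.ext <;> simp <;> field_simp
  exact congrArg Subtype.val h1

theorem exists_st (g : Grp F) : ∃ w' c e α β f d w, St g w' c e α β f d w := by
  obtain ⟨l, v, hv, h, hh, u, hu, e⟩ := exists_gauss g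
  obtain ⟨α, β, rfl⟩ := exists_dg hh
  obtain ⟨v₀, hv₀, w', c, e', rfl⟩ := un_split hv
  obtain ⟨f, d, w, u₀, hu₀, rfl⟩ := u1_split hu
  exact ⟨w', c, e', α, β, f, d, w, l, v₀, hv₀, u₀, hu₀, by rw [e]; group⟩

theorem Cell.st {g : Grp F} {c d : F} {α β : Fˣ} (h : Cell g (lwr c * dg α β * upr d)) :
    ∃ w' c e f d w, St g w' c e α β f d w := by
  obtain ⟨l, v, hv, u, hu, e⟩ := h
  rw [map_mul, map_mul, io_lwr, io_upr] at e
  obtain ⟨v₀, hv₀, w', c', e', he'⟩ := un_split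
    (mul_mem (XG_mono (T := un) (by decide) hv) (X_mem un (r := 4) (by decide) c))
  obtain ⟨f, d', w, u₀, hu₀, hu'⟩ := u1_split
    (mul_mem (X_mem u1 (r := 7) (by decide) d) (XG_mono (T := u1) (by decide) hu))
  refine ⟨w', c', e', f, d', w, l, v₀, hv₀, u₀, hu₀, ?_⟩
  rw [e, show v * (X 4 c * io (dg α β) * X 7 d) * u = v * X 4 c * io (dg α β) * (X 7 d * u) by group,
    he', hu']
  group

theorem Cell.st_lower {g : Grp F} {c : F} {α β : Fˣ} (h : Cell g (lwr c * dg α β)) :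
    ∃ w' c e f w, St g w' c e α β f 0 w := by
  obtain ⟨l, v, hv, u, hu, e⟩ := h
  rw [map_mul, io_lwr] at e
  obtain ⟨v₀, hv₀, w', c', e', he'⟩ := un_split
    (mul_mem (XG_mono (T := un) (by decide) hv) (X_mem un (r := 4) (by decide) c))
  obtain ⟨f, a, ha, rfl⟩ := exists_split' (S := [8, 9, 10, 11]) (s := 6) (by decide +kernel) hu
  obtain ⟨w, u₀, hu₀, rfl⟩ := high_split ha
  refine ⟨w', c', e', f, w, l, v₀, hv₀, u₀, hu₀, ?_⟩
  rw [e, X_zero, mul_one, show v * (X 4 c * io (dg α β)) * (X 6 f * (X 8 w * u₀)) =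
    v * X 4 c * io (dg α β) * X 6 f * X 8 w * u₀ by group, he']

/-! ### the rank-one identities on the long simple root -/

theorem hr_six (t : Fˣ) : (R F).hr 6 (t : F) = io (dg 1 t) := by
  have h6 := (R F).hr_mem_H (r := (6 : Rt)) t.ne_zero
  have hp : chevG2.pairing 6 7 = -1 ∧ chevG2.pairing 6 6 = 2 := by decide +kernel
  have h1 : (⟨_, h6⟩ : ↥(R F).H) = ⟨_, io_dg_mem 1 t⟩ := by
    refine psi2_injective ?_
    have a7 := chi_hr (F := F) 6 7 t.ne_zero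
    have a6 := chi_hr (F := F) 6 6 t.ne_zero
    rw [chi_eq ⟨_, h6⟩, show cfv 7 = (1, 0) by decide, show ((7 : Rt) : ℕ) = 7 from rfl,
      show ((6 : Rt) : ℕ) = 6 from rfl, hp.1, ev2] at a7
    rw [chi_eq ⟨_, h6⟩, show cfv 6 = (0, 1) by decide, show ((6 : Rt) : ℕ) = 6 from rfl, hp.2,
      ev2] at a6
    rw [psi2_dg]
    refine Prod.ext (Units.ext ?_) (Units.ext ?_)
    · simp at a7 ⊢; exact a7
    · simp at a6 ⊢; rw [a6]; exact pow_two _
  exact congrArg Subtype.val h1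

theorem six_five (r e : F) (t : Fˣ) (h : (t : F) = 1 + r * e) :
    (X 6 r * X 5 e : Grp F) = X 5 (e / t) * io (dg 1 t) * X 6 (r / t) := by
  have e1 : (slU r * slL e : SL2 F) = slL (e / t) * ph slU slL (t : F) * slU (r / t) := by
    refine Subtype.ext ?_
    simp only [Matrix.SpecialLinearGroup.coe_mul, coe_slU, coe_slL, ph_sl t.ne_zero]
    have := t.ne_zero
    ext i j
    fin_cases i <;> fin_cases j <;> simp <;> field_simp <;> first | linear_combination h | linear_combination -h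
  have e2 := congrArg (phi (F := F) 6) e1
  rw [map_mul, map_mul, map_mul, phi_U, phi_L, phi_L, phi_U, phi_ph] at e2
  exact e2.trans (congrArg (fun z => X 5 (e / t) * z * X 6 (r / t)) (hr_six t))

theorem H_X {t : Grp F} (ht : t ∈ (R F).H) (s : Rt) (a : F) : t * X s a = X s (χ t s * a) * t := by
  rw [← conj_X ht]; group

theorem X_H {t : Grp F} (ht : t ∈ (R F).H) (s : Rt) (a : F) :
    X s a * t = t * X s ((χ t s)⁻¹ * a) := by
  rw [H_X ht, ← mul_assoc, mul_inv_cancel₀ (chi_ne_zero ht s), one_mul]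

theorem io_dg_mul (α β α' β' : Fˣ) :
    (io (dg α β) * io (dg α' β') : Grp F) = io (dg (α * α') (β * β')) := by
  rw [← map_mul]
  congr 1
  refine Units.ext ?_
  rw [Units.val_mul, val_dg, val_dg, val_dg]
  ext i j
  fin_cases i <;> fin_cases j <;> simp

/-- conjugation of the middle by `X₆` -/
theorem mid_six (e f r : F) (t α β : Fˣ) (h : (t : F) = 1 + r * e) : ∃ e' f' : F,
    (X 6 r * (X 5 e * io (dg α β) * X 6 f) * (X 6 r)⁻¹ : Grp F) =
      X 5 e' * io (dg α (t * β)) * X 6 f' := by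
  refine ⟨e / t, (χ (io (dg α β)) 6)⁻¹ * (r / t) + (f + -r), ?_⟩
  rw [show (X 6 r * (X 5 e * io (dg α β) * X 6 f) * (X 6 r)⁻¹ : Grp F) =
    X 6 r * X 5 e * io (dg α β) * (X 6 f * (X 6 r)⁻¹) by group, six_five r e t h, ← X_neg, ← X_add,
    show io (dg α (t * β)) = (io (dg 1 t) * io (dg α β) : Grp F) by rw [io_dg_mul, one_mul],
    mul_assoc _ (X 6 (r / t)) (io (dg α β)), X_H (io_dg_mem α β)]
  simp only [X_add, mul_assoc]

/-- conjugation of a middle without lower part by `X₅` -/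
theorem mid_five (f r : F) (τ α β : Fˣ) (h : (τ : F) = 1 - r * f) :
    (X 5 r * (io (dg α β) * X 6 f) * (X 5 r)⁻¹ : Grp F) =
      X 5 (r - χ (io (dg α β)) 5 * (r / τ)) * io (dg α (τ * β)) * X 6 (f / τ) := by
  rw [show (X 5 r * (io (dg α β) * X 6 f) * (X 5 r)⁻¹ : Grp F) =
    X 5 r * io (dg α β) * (X 6 f * (X 5 r)⁻¹) by group, ← X_neg,
    six_five f (-r) τ (by rw [h]; ring),
    show io (dg α (τ * β)) = (io (dg α β) * io (dg 1 τ) : Grp F) by rw [io_dg_mul, mul_one, mul_comm],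
    show r - χ (io (dg α β)) 5 * (r / τ) = r + χ (io (dg α β)) 5 * (-r / τ) by ring, X_add,
    show (X 5 r * io (dg α β) * (X 5 (-r / τ) * io (dg 1 τ) * X 6 (f / τ)) : Grp F) =
      X 5 r * (io (dg α β) * X 5 (-r / τ)) * io (dg 1 τ) * X 6 (f / τ) by group,
    H_X (io_dg_mem α β)]
  group

/-! ### moves -/

theorem St.move_six {g : Grp F} {w' c e : F} {α β : Fˣ} {f w : F} (h : St g w' c e α β f 0 w)
    (r : F) (t : Fˣ) (ht : (t : F) = 1 + r * e) :
    ∃ w' c e f w, St g w' c e α (t * β) f 0 w := by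
  obtain ⟨l, v, hv, u, hu, he⟩ := h
  obtain ⟨e', f', hm⟩ := mid_six e f r t α β ht
  have hr : (X 6 r : Grp F) ∈ XG F [6] := X_mem _ (by simp) _
  obtain ⟨v₀, hv₀, w₁, c₁, hv₁⟩ := lb_split (conj_mem (S := [0, 1, 2, 3, 4]) (by decide +kernel) hr
    (mul_mem (mul_mem (XG_mono (by decide) hv) (X_mem _ (r := 3) (by decide) w'))
      (X_mem _ (r := 4) (by decide) c)))
  obtain ⟨w₂, u₀, hu₀, hu₂⟩ := high_split (conj_mem (S := [8, 9, 10, 11]) (by decide +kernel) hr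
    (mul_mem (X_mem _ (r := 8) (by decide) w) (XG_mono (by decide) hu)))
  refine ⟨w₁, c₁, e', f', w₂, X 6 r * l, v₀, hv₀, u₀, hu₀, ?_⟩
  calc X 6 r * l * g * (X 6 r * l)⁻¹ = X 6 r * (l * g * l⁻¹) * (X 6 r)⁻¹ := by group
    _ = (X 6 r * (v * X 3 w' * X 4 c) * (X 6 r)⁻¹) *
        (X 6 r * (X 5 e * io (dg α β) * X 6 f) * (X 6 r)⁻¹) *
        (X 6 r * (X 8 w * u) * (X 6 r)⁻¹) := by rw [he, X_zero]; group
    _ = _ := by rw [hv₁, hm, hu₂, X_zero]; group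

theorem commute_six_four (k c : F) : (X 6 k * X 4 c : Grp F) = X 4 c * X 6 k := by
  have h : ⁅(X 6 k : Grp F), X 4 c⁆ ∈ XG F ([] : List Rt) :=
    comm_mem Nat.cast_zero (A := [6]) (B := [4]) (by decide +kernel)
      ⟨6, by simp, _, rfl⟩ ⟨4, by simp, _, rfl⟩
  rw [XG_nil, Subgroup.mem_bot] at h
  exact commutatorElement_eq_one_iff_mul_comm.1 h

theorem St.conj_six {g : Grp F} {w' c : F} {α β : Fˣ} {f w : F} (h : St g w' c 0 α β f 0 w)
    (k : F) : ∃ w₂, St g w' (c - k * w') 0 α β ((χ (io (dg α β)) 6)⁻¹ * k + f - k) 0 w₂ := by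
  obtain ⟨l, v, hv, u, hu, he⟩ := h
  have hk : (X 6 k : Grp F) ∈ XG F [6] := X_mem _ (by simp) _
  have hv₁ := conj_mem (S := [0, 1, 2]) (by decide +kernel) hk hv
  obtain ⟨v₂, hv₂, h3⟩ := conj_X6_X3 k w'
  obtain ⟨w₂, u₀, hu₀, hu₂⟩ := high_split (conj_mem (S := [8, 9, 10, 11]) (by decide +kernel) hk
    (mul_mem (X_mem _ (r := 8) (by decide) w) (XG_mono (by decide) hu)))
  have h4 : (X 6 k * X 4 c * (X 6 k)⁻¹ : Grp F) = X 4 c := by
    rw [commute_six_four, mul_inv_cancel_right]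
  have hm : (X 6 k * (io (dg α β) * X 6 f) * (X 6 k)⁻¹ : Grp F) =
      io (dg α β) * X 6 ((χ (io (dg α β)) 6)⁻¹ * k + f - k) := by
    rw [sub_eq_add_neg, X_add, X_add, X_neg, ← mul_assoc (X 6 k), X_H (io_dg_mem α β)]
    group
  refine ⟨w₂, X 6 k * l, _, mul_mem hv₁ hv₂, u₀, hu₀, ?_⟩
  calc X 6 k * l * g * (X 6 k * l)⁻¹ = X 6 k * (l * g * l⁻¹) * (X 6 k)⁻¹ := by group
    _ = (X 6 k * v * (X 6 k)⁻¹) * (X 6 k * X 3 w' * (X 6 k)⁻¹) * (X 6 k * X 4 c * (X 6 k)⁻¹) *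
        (X 6 k * (io (dg α β) * X 6 f) * (X 6 k)⁻¹) *
        (X 6 k * (X 8 w * u) * (X 6 k)⁻¹) := by rw [he, X_zero, X_zero]; group
    _ = _ := by
      rw [h3, h4, hm, hu₂, X_zero, X_zero,
        show c - k * w' = -(k * w') + c by ring, X_add]
      group

theorem St.conj_five {g : Grp F} {c : F} {α β : Fˣ} {f w : F} (h : St g 0 c 0 α β f 0 w)
    (r : F) (τ : Fˣ) (hτ : (τ : F) = 1 - r * f) :
    ∃ w', St g w' c (r - χ (io (dg α β)) 5 * (r / τ)) α (τ * β) (f / τ) (r * w) w := by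
  obtain ⟨l, v, hv, u, hu, he⟩ := h
  have hr : (X 5 r : Grp F) ∈ XG F [5] := X_mem _ (by simp) _
  have hc4 : ⁅(X 5 r : Grp F), X 4 c⁆ ∈ XG F [0, 1, 2, 3] :=
    comm_mem Nat.cast_zero (A := [5]) (B := [4]) (by decide +kernel)
      ⟨5, by simp, _, rfl⟩ ⟨4, by simp, _, rfl⟩
  have hv₁ : X 5 r * v * (X 5 r)⁻¹ * ⁅(X 5 r : Grp F), X 4 c⁆ ∈ XG F [0, 1, 2, 3] :=
    mul_mem (XG_mono (by decide) (conj_mem (S := [0, 1, 2]) (by decide +kernel) hr hv)) hc4
  obtain ⟨v₀, hv₀, w', hv₂⟩ := exists_split (S := [0, 1, 2]) (s := 3) (by decide +kernel)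
    (XG_mono (T := [0, 1, 2] ++ [3]) (by decide) hv₁)
  obtain ⟨u₁, hu₁, h8⟩ := conj_X5_X8 r w
  have hu₂ := conj_mem (S := [9, 10, 11]) (by decide +kernel) hr hu
  refine ⟨w', X 5 r * l, v₀, hv₀, _, mul_mem hu₁ hu₂, ?_⟩
  calc X 5 r * l * g * (X 5 r * l)⁻¹ = X 5 r * (l * g * l⁻¹) * (X 5 r)⁻¹ := by group
    _ = (X 5 r * v * (X 5 r)⁻¹ * ⁅(X 5 r : Grp F), X 4 c⁆) * X 4 c *
        (X 5 r * (io (dg α β) * X 6 f) * (X 5 r)⁻¹) *
        (X 5 r * X 8 w * (X 5 r)⁻¹) * (X 5 r * u * (X 5 r)⁻¹) := by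
      rw [he, X_zero, X_zero, X_zero, commutatorElement_def]; group
    _ = _ := by rw [hv₂, h8, mid_five f r τ α β hτ]; group

theorem nwG_conj_X (w : List Si) (r : Rt) : ∃ e : F, e * e = 1 ∧ ∀ t,
    (nwG w * X r t * (nwG w)⁻¹ : Grp F) = X (wact w r) (e * t) := by
  obtain ⟨e, he, h⟩ := (R F).nw_conj w r
  exact ⟨e, he, fun t => (h t).trans (congrArg (fun s => X s (e * t)) (actw_eq w r))⟩

theorem nw_map (w : List Si) {S T : List Rt} (h : ∀ r ∈ S, wact w r ∈ T) {v : Grp F}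
    (hv : v ∈ XG F S) : nwG w * v * (nwG w)⁻¹ ∈ XG F T := by
  induction hv using Subgroup.closure_induction with
  | mem x hx =>
    obtain ⟨r, hr, c, rfl⟩ := hx
    obtain ⟨e, -, he⟩ := nwG_conj_X (F := F) w r
    rw [he]
    exact X_mem T (h r hr) _
  | one => simp
  | mul x y _ _ hx hy => simpa [mul_assoc] using mul_mem hx hy
  | inv x _ hx => simpa [mul_assoc] using inv_mem hx

theorem St.flat {g : Grp F} {c : F} (h : St g 0 c 0 1 1 0 0 0) : Cell g 1 := by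
  obtain ⟨l, v, hv, u, hu, he⟩ := h
  set n : Grp F := nwG [(1 : Si)]
  have h1 : (dg 1 1 : GL2) = 1 := Units.ext (by
    rw [val_dg]; ext i j; fin_cases i <;> fin_cases j <;> simp)
  refine ⟨n * l, n * v * n⁻¹ * (n * X 4 c * n⁻¹), mul_mem (nw_map [(1 : Si)] (by decide) hv)
    (nw_map [(1 : Si)] (S := [4]) (by decide) (X_mem _ (by simp) _)), n * u * n⁻¹,
    nw_map [(1 : Si)] (by decide) hu, ?_⟩
  calc n * l * g * (n * l)⁻¹ = n * (l * g * l⁻¹) * n⁻¹ := by group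
    _ = _ := by rw [he, h1, map_one, X_zero, X_zero, X_zero, X_zero, X_zero]; group

/-- a conjugate in `Q_b⁻ (middle) Q_b` can have its torus part moved along the long simple coroot -/
theorem St.move_b {g : Grp F} {w' c e : F} {α β : Fˣ} {f d w : F} (h : St g w' c e α β f d w)
    (hne : e ≠ 0 ∨ f ≠ 0 ∨ (β : F) * β ≠ α) (t : Fˣ) :
    ∃ w' c e f d w, St g w' c e α (t * β) f d w := by
  obtain ⟨l, v, hv, u, hu, he⟩ := h
  set LB := XG F [0, 1, 2, 3, 4]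
  set UB := XG F [7, 8, 9, 10, 11]
  -- conjugate so that the lower middle entry is non-zero or the upper one gives the step
  have main : ∀ (l : Grp F) (v u : Grp F), v ∈ LB → u ∈ UB → ∀ (e f : F) (γ : Fˣ), e ≠ 0 →
      l * g * l⁻¹ = v * (X 5 e * io (dg α γ) * X 6 f) * u → ∀ t : Fˣ,
      ∃ l' : Grp F, ∃ v' ∈ LB, ∃ u' ∈ UB, ∃ e' f' : F,
        l' * g * l'⁻¹ = v' * (X 5 e' * io (dg α (t * γ)) * X 6 f') * u' := by
    intro l v u hv hu e f γ he0 he t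
    set r := ((t : F) - 1) / e with hr'
    obtain ⟨e', f', hm⟩ := mid_six e f r t α γ (by rw [hr', div_mul_cancel₀ _ he0]; ring)
    have hr : (X 6 r : Grp F) ∈ XG F [6] := X_mem _ (by simp) _
    refine ⟨X 6 r * l, _, conj_mem (S := [0, 1, 2, 3, 4]) (by decide +kernel) hr hv, _,
      conj_mem (S := [7, 8, 9, 10, 11]) (by decide +kernel) hr hu, e', f', ?_⟩
    calc X 6 r * l * g * (X 6 r * l)⁻¹ = X 6 r * (l * g * l⁻¹) * (X 6 r)⁻¹ := by group
      _ = _ := by rw [he, ← hm]; group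
  suffices key : ∃ l' : Grp F, ∃ v' ∈ LB, ∃ u' ∈ UB, ∃ e' f' : F,
      l' * g * l'⁻¹ = v' * (X 5 e' * io (dg α (t * β)) * X 6 f') * u' by
    obtain ⟨l', v', hv', u', hu', e', f', h'⟩ := key
    obtain ⟨v₀, hv₀, w₁, c₁, rfl⟩ := lb_split hv'
    obtain ⟨d₁, b, hb, rfl⟩ := exists_split' (S := [8, 9, 10, 11]) (s := 7) (by decide +kernel) hu'
    obtain ⟨w₂, u₀, hu₀, rfl⟩ := high_split hb
    exact ⟨w₁, c₁, e', f', d₁, w₂, l', v₀, hv₀, u₀, hu₀, by rw [h']; group⟩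
  have hv' : v * X 3 w' * X 4 c ∈ LB :=
    mul_mem (mul_mem (XG_mono (by decide) hv) (X_mem _ (by decide) _)) (X_mem _ (by decide) _)
  have hu' : X 7 d * X 8 w * u ∈ UB :=
    mul_mem (mul_mem (X_mem _ (by decide) _) (X_mem _ (by decide) _)) (XG_mono (by decide) hu)
  have he' : l * g * l⁻¹ = (v * X 3 w' * X 4 c) * (X 5 e * io (dg α β) * X 6 f) *
      (X 7 d * X 8 w * u) := by rw [he]; group
  by_cases he0 : e = 0
  swap
  · exact main l _ _ hv' hu' e f β he0 he' t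
  subst he0
  rw [X_zero, one_mul] at he'
  have hl : ∀ r : F, ∀ τ : Fˣ, (τ : F) = 1 - r * f → ∃ v' ∈ LB, ∃ u' ∈ UB,
      X 5 r * l * g * (X 5 r * l)⁻¹ = v' * (X 5 (r - χ (io (dg α β)) 5 * (r / τ)) *
        io (dg α (τ * β)) * X 6 (f / τ)) * u' := by
    intro r τ hτ
    have hr : (X 5 r : Grp F) ∈ XG F [5] := X_mem _ (by simp) _
    refine ⟨_, conj_mem (S := [0, 1, 2, 3, 4]) (by decide +kernel) hr hv', _,
      conj_mem (S := [7, 8, 9, 10, 11]) (by decide +kernel) hr hu', ?_⟩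
    calc X 5 r * l * g * (X 5 r * l)⁻¹ = X 5 r * (l * g * l⁻¹) * (X 5 r)⁻¹ := by group
      _ = _ := by rw [he', ← mid_five f r τ α β hτ]; group
  by_cases hf : f = 0
  · subst hf
    have hb : (β : F) * β ≠ α := by simpa using hne
    obtain ⟨v', hv'', u', hu'', h'⟩ := hl 1 1 (by simp)
    rw [one_mul] at h'
    refine main _ v' u' hv'' hu'' _ _ β ?_ h' t
    rw [chi_dg, show cfv 5 = (0, -1) by decide, ev2]
    intro e
    apply hb
    have := α.ne_zero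
    have := β.ne_zero
    simp at e
    field_simp at e
    linear_combination e
  · obtain ⟨v', hv'', u', hu'', h'⟩ := hl ((1 - t) / f) t (by rw [div_mul_cancel₀ _ hf]; ring)
    exact ⟨_, v', hv'', u', hu'', _, _, h'⟩

end Cfsg.Agent.G2Cover59
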